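import Cfsg.Agent.BlocksFrobenius.Frame
import Cfsg.Agent.ClassPairs.Basic

/-!
# Products of two conjugates of an involution and the section of an element of `P`

When no such product lies in the section of `y`, the principal block alone gives a vanishing sum.
-/

set_option autoImplicit false
set_option linter.style.haveILetI false
set_option linter.unusedSectionVars false

namespace CfsgLib.BlocksFrobenius

open Cfsg CfsgLib.Blocks CfsgLib.PrincipalBlock
open scoped ComplexConjugate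

universe u

variable {G : Type u} [Group G] [Fintype G] {p : ℕ} [Fact p.Prime] {P : Sylow p G}

/-- A character value at an element of square one is a rational integer. -/
theorem exists_int_apply (χ : IrrCharacter G) {t : G} (ht : t * t = 1) :
    ∃ z : ℤ, (χ : G → ℂ) t = z := by
  obtain ⟨d, ρ, hρ, hρc⟩ := χ.2
  obtain ⟨μ, hμ, hj, -⟩ := Characters.exists_eigenvalues ρ t
  have hsq : ∀ i, μ i * μ i = 1 := fun i => by
    obtain ⟨c, hc⟩ := orderOf_dvd_of_pow_eq_one (show t ^ 2 = 1 by rw [sq, ht])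
    rw [← sq, hc, pow_mul, hμ i, one_pow]
  have hz : ∀ i, ∃ z : ℤ, μ i = z := fun i => by
    rcases mul_self_eq_one_iff.1 (hsq i) with e | e
    exacts [⟨1, by simp [e]⟩, ⟨-1, by simp [e]⟩]
  choose z hz using hz
  refine ⟨∑ i, z i, ?_⟩
  rw [← hρc, ← pow_one t, hj 1]
  push_cast
  exact Finset.sum_congr rfl fun i _ => by rw [pow_one, hz]

/-- An element of `P` in a complement of the centralizer is trivial. -/
theorem eq_one_of_mem_complement {C : Subgroup G} (K : Subgroup C) (hK : ¬ p ∣ Nat.card K)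
    {w : C} (hw : (w : G) ∈ (P : Subgroup G)) (hwK : w ∈ K) : w = 1 := by
  by_contra hne
  refine hK (((dvd_orderOf_of_mem hw fun e => hne (Subtype.ext e)).trans ?_))
  rw [Subgroup.orderOf_coe]
  simpa using orderOf_dvd_natCard (⟨w, hwK⟩ : K)

/-- Two conjugates of an involution cannot multiply into the section of `y`. -/
theorem no_pairs (h : Semireg P) (hodd : Odd (Nat.card (aut P))) {t : G} (ht : t * t = 1)
    (y : (P : Subgroup G)) (hy : (y : G) ≠ 1)
    (hprod : ∀ t₀ : (P : Subgroup G), IsConj t (t₀ : G) → ∀ f g : aut P,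
      y * y = 1 → f.1 t₀ * g.1 t₀ ≠ y)
    (ht₀ : y * y = 1 → ∃ t₀ : (P : Subgroup G), IsConj t (t₀ : G))
    (a b : G) : ¬ Cfsg.IsPPart p (a * t * a⁻¹ * (b * t * b⁻¹)) (y : G) := by
  intro hz
  set t₁ := a * t * a⁻¹ with ht1
  set t₂ := b * t * b⁻¹ with ht2
  have h1 : t₁ * t₁ = 1 :=
    calc t₁ * t₁ = a * (t * t) * a⁻¹ := by rw [ht1]; group
      _ = 1 := by rw [ht, mul_one, mul_inv_cancel]
  have h2 : t₂ * t₂ = 1 :=
    calc t₂ * t₂ = b * (t * t) * b⁻¹ := by rw [ht2]; group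
      _ = 1 := by rw [ht, mul_one, mul_inv_cancel]
  obtain ⟨k, hk, hc, hpow, hreg⟩ := hz
  have hinv : Cfsg.IsPPart p (t₁ * t₂)⁻¹ (y : G)⁻¹ := ⟨k⁻¹, by
    rw [← hk, hc.eq, mul_inv_rev], hc.inv_inv,
    by simpa using hpow, by simpa using hreg⟩
  have hconj := isPPart_conj (⟨k, hk, hc, hpow, hreg⟩ : Cfsg.IsPPart p (t₁ * t₂) (y : G)) t₁
  have hti : t₁⁻¹ = t₁ := inv_eq_of_mul_eq_one_right h1
  have hflip : t₁ * (t₁ * t₂) * t₁⁻¹ = (t₁ * t₂)⁻¹ := by
    rw [← mul_assoc t₁ t₁, h1, one_mul, mul_inv_rev t₁ t₂, inv_eq_of_mul_eq_one_right h2]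
  rw [hflip] at hconj
  have hy2 : t₁ * (y : G) * t₁⁻¹ = (y : G)⁻¹ := isPPart_unique (Fact.out : p.Prime) hconj hinv
  have hsq : y * y = 1 := by
    obtain ⟨f, hf, he⟩ := h.exists_aut (y := y) (y' := y⁻¹)
      (isConj_iff.2 ⟨t₁, by rw [hy2]; rfl⟩)
    have hff : (f * f) y = y := by
      rw [MulAut.mul_apply, he, map_inv, he, inv_inv]
    by_cases hf2 : f * f = 1
    · have hf1 : (⟨f, hf⟩ : aut P) = 1 := by
        refine orderOf_eq_one_iff.1 (Nat.dvd_one.1 ?_)
        rw [← (Nat.coprime_two_left.2 hodd).gcd_eq_one]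
        exact Nat.dvd_gcd (orderOf_dvd_of_pow_eq_one (Subtype.ext (by simpa [sq] using hf2)))
          (orderOf_dvd_natCard _)
      rw [show f = 1 from congrArg Subtype.val hf1, MulAut.one_apply] at he
      rw [mul_eq_one_iff_eq_inv, ← he]
    · exact absurd (h.eq_one_of_fixed (mul_mem hf hf) hf2 hff) fun e => hy (congrArg Subtype.val e)
  -- inside the centralizer of `y`
  obtain ⟨t₀, ht0⟩ := ht₀ hsq
  set C := Subgroup.centralizer ({(y : G)} : Set G)
  have hyinv : (y : G)⁻¹ = y := inv_eq_of_mul_eq_one_right (congrArg Subtype.val hsq)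
  have ht₁C : t₁ ∈ C := Subgroup.mem_centralizer_singleton_iff.2
    (mul_inv_eq_iff_eq_mul.1 (hy2.trans hyinv))
  have hzC : t₁ * t₂ ∈ C := Subgroup.mem_centralizer_singleton_iff.2 (by
    rw [← hk, mul_assoc, hc.symm.eq, ← mul_assoc])
  have ht₂C : t₂ ∈ C := by
    have := mul_mem ht₁C hzC
    rwa [← mul_assoc, h1, one_mul] at this
  obtain ⟨K, hKn, hK, hKi⟩ := h.exists_complement y.2 hy
  obtain ⟨n, hn⟩ := P.2.exists_card_eq
  have hle := h.le_centralizer_singleton y.2
  let ι : (P : Subgroup G) →* C := Subgroup.inclusion hle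
  have hinj : Function.Injective fun w : (P : Subgroup G) => (QuotientGroup.mk (ι w) : C ⧸ K) := by
    intro v w e
    have h3 : (ι v)⁻¹ * ι w ∈ K := QuotientGroup.eq.1 e
    rw [← map_inv, ← map_mul] at h3
    have h4 := eq_one_of_mem_complement K hK (P := P) (w := ι (v⁻¹ * w)) (v⁻¹ * w).2 h3
    exact inv_mul_eq_one.1 (Subgroup.inclusion_injective hle (h4.trans (map_one ι).symm))
  have hsurj : Function.Surjective fun w : (P : Subgroup G) => (QuotientGroup.mk (ι w) : C ⧸ K) :=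
    ((Nat.bijective_iff_injective_and_card _).2 ⟨hinj, hKi.symm⟩).2
  have hproj : ∀ s : G, IsConj t s → ∀ hs : s ∈ C, ∃ f : aut P,
      (QuotientGroup.mk (⟨s, hs⟩ : C) : C ⧸ K) = QuotientGroup.mk (ι (f.1 t₀)) := by
    intro s hts hs
    have hord : orderOf s ∣ 2 := by
      refine orderOf_dvd_of_pow_eq_one ?_
      obtain ⟨c, rfl⟩ := isConj_iff.1 hts
      rw [conj_pow, sq, ht, mul_one, mul_inv_cancel]
    have hsp : ∃ j, Nat.card (Subgroup.zpowers (⟨s, hs⟩ : C)) = p ^ j := by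
      obtain ⟨j, hj⟩ := isPow_of_mem t₀.2
      obtain ⟨c, hc'⟩ := isConj_iff.1 (hts.symm.trans ht0)
      refine ⟨j, ?_⟩
      rw [Nat.card_zpowers, ← Subgroup.orderOf_coe, ← hj, ← hc']
      exact ((MulAut.conj c).orderOf_eq s).symm
    obtain ⟨j, hj⟩ := hsp
    obtain ⟨S, hS⟩ := (IsPGroup.of_card hj).exists_le_sylow
    obtain ⟨c, hc'⟩ := MulAction.exists_smul_eq C S (P.subtype hle)
    have hmem : c * ⟨s, hs⟩ * c⁻¹ ∈ ((P.subtype hle : Sylow p C) : Subgroup C) := by
      rw [← hc', Sylow.coe_subgroup_smul]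
      exact Subgroup.smul_mem_pointwise_smul _ _ _ (hS (Subgroup.mem_zpowers _))
    rw [Sylow.coe_subtype, Subgroup.mem_subgroupOf] at hmem
    have hct : IsConj (t₀ : G) ((c * ⟨s, hs⟩ * c⁻¹ : C) : G) := ht0.symm.trans
      (hts.trans (isConj_iff.2 ⟨(c : G), by simp⟩))
    obtain ⟨f, hf, he⟩ := h.exists_aut (y := t₀) (y' := ⟨_, hmem⟩) hct
    refine ⟨⟨f, hf⟩, ?_⟩
    have he' : ι (f t₀) = c * ⟨s, hs⟩ * c⁻¹ :=
      Subtype.ext (show ((f t₀ : (P : Subgroup G)) : G) = _ by rw [he])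
    obtain ⟨v, hv⟩ := hsurj (QuotientGroup.mk c)
    obtain ⟨w, hw⟩ := hsurj (QuotientGroup.mk (⟨s, hs⟩ : C))
    simp only at hv hw
    rw [he', QuotientGroup.mk_mul, QuotientGroup.mk_mul, QuotientGroup.mk_inv, ← hv, ← hw,
      ← QuotientGroup.mk_inv, ← QuotientGroup.mk_mul, ← QuotientGroup.mk_mul, ← map_inv, ← map_mul,
      ← map_mul]
    rw [h.comm.is_comm.comm v w, mul_inv_cancel_right]
  obtain ⟨f, hf⟩ := hproj t₁ (isConj_iff.2 ⟨a, rfl⟩) ht₁C
  obtain ⟨g, hg⟩ := hproj t₂ (isConj_iff.2 ⟨b, rfl⟩) ht₂C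
  refine hprod t₀ ht0 f g hsq (hinj ?_)
  show (QuotientGroup.mk (ι (f.1 t₀ * g.1 t₀)) : C ⧸ K) = QuotientGroup.mk (ι y)
  rw [map_mul, QuotientGroup.mk_mul, ← hf, ← hg, ← QuotientGroup.mk_mul]
  refine QuotientGroup.eq.2 (mem_of_regular K (hKi.trans hn) (p := p) ?_)
  rw [← Subgroup.orderOf_coe]
  show ¬ p ∣ orderOf ((t₁ * t₂)⁻¹ * (y : G))
  rw [← hk, mul_inv_rev, mul_assoc, inv_mul_cancel, mul_one, orderOf_inv]
  exact hreg

variable {M : Ideal AlgInt} [M.IsPrime]

open Classical in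
/-- The class multiplication constant restricted to the principal block. -/
theorem sum_sq_mul_conj_eq_zero (h : Semireg P) (hM : Cfsg.IsPModular p M) {t : G}
    (y : (P : Subgroup G)) (hy : (y : G) ≠ 1)
    (hno : ∀ a b : G, ¬ Cfsg.IsPPart p (a * t * a⁻¹ * (b * t * b⁻¹)) (y : G)) :
    ∑ χ ∈ (Cfsg.principalBlock M G).toFinset,
      conj ((χ : G → ℂ) y) * ((χ : G → ℂ) t * (χ : G → ℂ) t / (χ : G → ℂ) 1) = 0 := by
  set C := Subgroup.centralizer ({(y : G)} : Set G)
  haveI := Fintype.ofFinite C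
  have hyo := isPow_of_mem (P := P) y.2
  obtain ⟨K, hKn, hK, hKi⟩ := h.exists_complement y.2 hy
  obtain ⟨n, hn⟩ := P.2.exists_card_eq
  set S : Finset G := (Finset.univ.filter fun k : C => k ∈ K).image fun k : C => (y : G) * (k : G)
  have hzero := ClassPairs.card_pairs t t S
  rw [Finset.sum_eq_zero fun a _ => Finset.sum_eq_zero fun b _ => if_neg fun hmem => ?_,
    eq_comm, mul_eq_zero, or_iff_right (Characters.natCard_ne_zero (G := G))] at hzero
  swap
  · obtain ⟨k, hk, he⟩ := Finset.mem_image.1 hmem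
    refine hno a b (he ▸ isPPart_of_mul
      (Subgroup.mem_centralizer_singleton_iff.1 k.2).symm hyo fun hd => hK (hd.trans ?_))
    rw [Subgroup.orderOf_coe]
    simpa using orderOf_dvd_natCard (⟨k, (Finset.mem_filter.1 hk).2⟩ : K)
  have hK0 : (Nat.card K : ℂ) ≠ 0 := Nat.cast_ne_zero.2 Nat.card_pos.ne'
  have hcoef : ∀ k : C, Cfsg.blockCoeff (Cfsg.principalBlock M C) k =
      if k ∈ K then (Nat.card K : ℂ)⁻¹ else 0 := by
    intro k
    have hbc := BlocksLocal.blockCoeff_principal_of_normal_complement hM K hK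
      ⟨n, hKi.trans hn⟩ k
    rw [Set.indicator_apply, ← Subgroup.card_mul_index K, Nat.cast_mul] at hbc
    have hi0 : (K.index : ℂ) ≠ 0 := by rw [hKi]; exact card_ne_zero P
    simp only [SetLike.mem_coe] at hbc
    split_ifs with hk
    · rw [if_pos hk, mul_one] at hbc
      field_simp
      exact mul_left_cancel₀ hi0 (by linear_combination hbc)
    · rw [if_neg hk, mul_zero, mul_eq_zero] at hbc
      exact hbc.resolve_left (mul_ne_zero hK0 hi0)
  have hsum : ∀ χ : IrrCharacter G, ∑ s ∈ S, conj ((χ : G → ℂ) s) =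
      (Nat.card K : ℂ) * if χ ∈ Cfsg.principalBlock M G then conj ((χ : G → ℂ) y) else 0 := by
    intro χ
    have h1 := BlocksLocal.blockPart_principal_translate hM hyo χ (y := (1 : C))
      (by rw [orderOf_one]; exact (Fact.out : p.Prime).not_dvd_one)
    rw [blockPart_eq_sum _ (isClassFunction_translate (χ : G → ℂ)
      (Characters.isClassFunction_of_isIrr χ.2) (y : G))] at h1
    simp only [mul_one, OneMemClass.coe_one] at h1
    replace h1 : ∑ k : C, (if k ∈ K then (Nat.card K : ℂ)⁻¹ else 0) * (χ : G → ℂ) ((y : G) * (k : G)) =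
        if χ ∈ Cfsg.principalBlock M G then (χ : G → ℂ) y else 0 :=
      (Finset.sum_congr rfl fun k _ => by rw [← hcoef k]).trans h1
    simp only [ite_mul, zero_mul, ← Finset.sum_filter, ← Finset.mul_sum] at h1
    rw [Finset.sum_image fun a _ b _ e => Subtype.ext (mul_left_cancel e), ← map_sum,
      show (∑ k ∈ Finset.univ.filter (fun k : C => k ∈ K), (χ : G → ℂ) ((y : G) * (k : G))) =
        (Nat.card K : ℂ) * if χ ∈ Cfsg.principalBlock M G then (χ : G → ℂ) y else 0 by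
          rw [← h1, mul_inv_cancel_left₀ hK0]]
    rw [map_mul, map_natCast, apply_ite conj, map_zero]
  simp only [hsum, mul_assoc, ← Finset.mul_sum, mul_eq_zero, hK0, false_or, ite_mul, zero_mul,
    ← Finset.sum_filter] at hzero
  rw [← hzero]
  exact Finset.sum_congr (Finset.ext fun χ => by simp) fun _ _ => rfl

end CfsgLib.BlocksFrobenius
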