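import Mathlib.GroupTheory.FiniteAbelian.Duality
import Mathlib.RingTheory.RootsOfUnity.AlgebraicallyClosed
import Mathlib.Analysis.Complex.Polynomial.Basic
import Mathlib.Algebra.BigOperators.Ring.Finset

/-!
# Linear characters of a finite group with commutative multiplication
-/

set_option autoImplicit false
set_option linter.style.haveILetI false
set_option linter.unusedSectionVars false

namespace CfsgLib.BlocksFrobenius

open scoped ComplexConjugate IsMulCommutative

variable {A : Type*} [Group A] [Finite A]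

theorem card_dual [IsMulCommutative A] : Nat.card (A →* ℂˣ) = Nat.card A := by
  haveI : NeZero (Monoid.exponent A : ℂ) :=
    ⟨Nat.cast_ne_zero.2 Monoid.exponent_ne_zero_of_finite⟩
  exact CommGroup.card_monoidHom_of_hasEnoughRootsOfUnity A ℂ

theorem finite_dual [IsMulCommutative A] : Finite (A →* ℂˣ) :=
  Nat.finite_of_card_ne_zero (by rw [card_dual]; exact Nat.card_pos.ne')

theorem exists_dual_ne_one [IsMulCommutative A] {a : A} (ha : a ≠ 1) :
    ∃ ψ : A →* ℂˣ, ψ a ≠ 1 := by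
  haveI : NeZero (Monoid.exponent A : ℂ) :=
    ⟨Nat.cast_ne_zero.2 Monoid.exponent_ne_zero_of_finite⟩
  exact CommGroup.exists_apply_ne_one_of_hasEnoughRootsOfUnity A ℂ ha

theorem conj_apply (ψ : A →* ℂˣ) (a : A) : conj (ψ a : ℂ) = ((ψ⁻¹ a : ℂˣ) : ℂ) := by
  have hn : ‖(ψ a : ℂ)‖ = 1 := Complex.norm_eq_one_of_pow_eq_one
    (by rw [← Units.val_pow_eq_pow_val, ← map_pow, pow_orderOf_eq_one, map_one, Units.val_one])
    (orderOf_pos a).ne'
  rw [← Complex.inv_eq_conj hn, MonoidHom.inv_apply, Units.val_inv_eq_inv_val]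

theorem inv_ne {ψ : A →* ℂˣ} (hψ : ψ ≠ 1) : ψ⁻¹ ≠ 1 := fun h => hψ (MonoidHom.ext fun a => by
  have := DFunLike.congr_fun h a
  rw [MonoidHom.inv_apply, MonoidHom.one_apply] at this
  rw [MonoidHom.one_apply, ← inv_inv (ψ a), this, inv_one])

open Classical in
theorem sum_apply [Fintype A] (ψ : A →* ℂˣ) :
    ∑ a : A, (ψ a : ℂ) = if ψ = 1 then (Nat.card A : ℂ) else 0 := by
  split_ifs with h
  · simp [h, Nat.card_eq_fintype_card]
  obtain ⟨u, hu⟩ : ∃ u, ψ u ≠ 1 := by
    by_contra hc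
    push Not at hc
    exact h (MonoidHom.ext hc)
  have hshift : (ψ u : ℂ) * ∑ a, (ψ a : ℂ) = ∑ a, (ψ a : ℂ) := by
    rw [Finset.mul_sum]
    refine Fintype.sum_equiv (Equiv.mulLeft u) _ _ fun w => ?_
    rw [Equiv.coe_mulLeft, map_mul, Units.val_mul]
  by_contra h0
  exact hu (Units.ext ((mul_eq_right₀ h0).mp hshift))

theorem sum_dual_apply [IsMulCommutative A] [Fintype (A →* ℂˣ)] [DecidableEq A] (a : A) :
    ∑ ψ : A →* ℂˣ, (ψ a : ℂ) = if a = 1 then (Nat.card A : ℂ) else 0 := by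
  split_ifs with h
  · subst h
    simp only [map_one, Units.val_one, Finset.sum_const, nsmul_one, Finset.card_univ]
    rw [← Nat.card_eq_fintype_card, card_dual]
  obtain ⟨φ, hφ⟩ := exists_dual_ne_one h
  have hshift : (φ a : ℂ) * ∑ ψ : A →* ℂˣ, (ψ a : ℂ) = ∑ ψ : A →* ℂˣ, (ψ a : ℂ) := by
    rw [Finset.mul_sum]
    refine Fintype.sum_equiv (Equiv.mulLeft φ) _ _ fun ψ => ?_
    rw [Equiv.coe_mulLeft, MonoidHom.mul_apply, Units.val_mul]
  by_contra h0
  exact hφ (Units.ext ((mul_eq_right₀ h0).mp hshift))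

end CfsgLib.BlocksFrobenius
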