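import Cfsg.Agent.BlocksFrobenius.Orbits
import Cfsg.Agent.Blocks.Knorr
import Cfsg.Agent.Blocks.RegularSupport
import Cfsg.Agent.Blocks.Height

/-!
# The integral vectors of the principal block

`coeff χ ψ` is the multiplicity of the principal character of `P` in `χ` minus that of `ψ`.
-/

set_option autoImplicit false
set_option linter.style.haveILetI false
set_option linter.unusedSectionVars false

namespace CfsgLib.BlocksFrobenius

open Cfsg CfsgLib.Blocks CfsgLib.PrincipalBlock
open scoped ComplexConjugate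

universe u

variable {G : Type u} [Group G] [Fintype G] {p : ℕ} [Fact p.Prime] {P : Sylow p G}

theorem exists_mult (χ : IrrCharacter G) (ψ : (P : Subgroup G) →* ℂˣ) :
    ∃ m : ℕ, ∀ [Fintype (P : Subgroup G)],
      ∑ y : (P : Subgroup G), (χ : G → ℂ) y * conj (ψ y : ℂ) =
        (Nat.card (P : Subgroup G) : ℂ) * m := by
  letI := Fintype.ofFinite (P : Subgroup G)
  obtain ⟨m, hm⟩ := Characters.classInner_characters
    (Characters.isCharacter_restrict (P : Subgroup G) (Characters.isCharacter_of_isIrr χ.2))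
    (Characters.isCharacter_of_isIrr (Characters.isIrr_linChar ψ))
  refine ⟨m, fun {inst} => ?_⟩
  cases Subsingleton.elim inst (Fintype.ofFinite (P : Subgroup G))
  rw [← hm, Cfsg.classInner,
    mul_inv_cancel_left₀ (Nat.cast_ne_zero.2 (Nat.card_pos (α := (P : Subgroup G))).ne')]

/-- The multiplicity of `ψ` in the restriction of `χ`. -/
noncomputable def mult (χ : IrrCharacter G) (ψ : (P : Subgroup G) →* ℂˣ) : ℕ :=
  (exists_mult χ ψ).choose

theorem sum_mult_eq [Fintype (P : Subgroup G)] (χ : IrrCharacter G) (ψ : (P : Subgroup G) →* ℂˣ) :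
    ∑ y : (P : Subgroup G), (χ : G → ℂ) y * conj (ψ y : ℂ) =
      (Nat.card (P : Subgroup G) : ℂ) * mult χ ψ :=
  (exists_mult χ ψ).choose_spec

/-- The integral vector. -/
noncomputable def coeff (χ : IrrCharacter G) (ψ : (P : Subgroup G) →* ℂˣ) : ℤ :=
  (mult χ (1 : (P : Subgroup G) →* ℂˣ) : ℤ) - mult χ ψ

theorem card_mul_coeff [Fintype (P : Subgroup G)] (χ : IrrCharacter G)
    (ψ : (P : Subgroup G) →* ℂˣ) :
    (Nat.card (P : Subgroup G) : ℂ) * (coeff χ ψ : ℂ) =
      ∑ y : (P : Subgroup G), (χ : G → ℂ) y * (1 - conj (ψ y : ℂ)) := by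
  simp only [mul_sub, mul_one, Finset.sum_sub_distrib, sum_mult_eq, coeff]
  rw [show ∑ y : (P : Subgroup G), (χ : G → ℂ) y =
    ∑ y : (P : Subgroup G), (χ : G → ℂ) y * conj ((1 : (P : Subgroup G) →* ℂˣ) y : ℂ) by simp,
    sum_mult_eq]
  push_cast; ring

theorem coeff_one (χ : IrrCharacter G) : coeff χ (1 : (P : Subgroup G) →* ℂˣ) = 0 := by
  simp [coeff]

theorem card_ne_zero (P : Sylow p G) : (Nat.card (P : Subgroup G) : ℂ) ≠ 0 :=
  Nat.cast_ne_zero.2 Nat.card_pos.ne'

theorem coeff_pre (χ : IrrCharacter G) {f : MulAut (P : Subgroup G)} (hf : f ∈ aut P)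
    (ψ : (P : Subgroup G) →* ℂˣ) : coeff χ (pre f ψ) = coeff χ ψ := by
  letI := Fintype.ofFinite (P : Subgroup G)
  refine Int.cast_injective (α := ℂ) (mul_left_cancel₀ (card_ne_zero P) ?_)
  rw [card_mul_coeff, card_mul_coeff]
  refine Fintype.sum_equiv f.toEquiv _ _ fun y => ?_
  obtain ⟨g, hg⟩ := isConj_iff.1 (isConj_aut hf y)
  show _ = (χ : G → ℂ) ((f y : (P : Subgroup G)) : G) * (1 - conj (ψ (f y) : ℂ))
  rw [← hg, Characters.isClassFunction_of_isIrr χ.2]
  rfl

theorem coeff_trivChar {ψ : (P : Subgroup G) →* ℂˣ} (hψ : ψ ≠ 1) :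
    coeff (trivChar G) ψ = 1 := by
  classical
  letI := Fintype.ofFinite (P : Subgroup G)
  refine Int.cast_injective (α := ℂ) (mul_left_cancel₀ (card_ne_zero P) ?_)
  rw [card_mul_coeff, Int.cast_one, mul_one,
    Finset.sum_congr rfl (g := fun y => 1 - ((ψ⁻¹ y : ℂˣ) : ℂ)) fun y _ => by
      show (1 : ℂ) * _ = _
      rw [one_mul, conj_apply],
    Finset.sum_sub_distrib, sum_apply]
  simp [Nat.card_eq_fintype_card, inv_ne hψ]

/-- The restriction of `χ` to the nonidentity elements of `P`. -/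
theorem apply_eq_neg_sum (h : Semireg P) [Fintype ((P : Subgroup G) →* ℂˣ)] (χ : IrrCharacter G)
    {y : (P : Subgroup G)} (hy : y ≠ 1) :
    (χ : G → ℂ) y = -∑ ψ : (P : Subgroup G) →* ℂˣ, (coeff χ ψ : ℂ) * (ψ y : ℂ) := by
  classical
  haveI := h.comm
  letI := Fintype.ofFinite (P : Subgroup G)
  refine mul_left_cancel₀ (card_ne_zero P) ?_
  simp only [mul_neg, Finset.mul_sum, ← mul_assoc, card_mul_coeff, Finset.sum_mul]
  rw [Finset.sum_comm]
  have hinner : ∀ w : (P : Subgroup G), ∑ ψ : (P : Subgroup G) →* ℂˣ,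
      (χ : G → ℂ) w * (1 - conj (ψ w : ℂ)) * (ψ y : ℂ) =
        -(if w = y then (Nat.card (P : Subgroup G) : ℂ) * (χ : G → ℂ) w else 0) := by
    intro w
    simp only [mul_sub, mul_one, sub_mul, Finset.sum_sub_distrib, ← Finset.mul_sum, mul_assoc]
    rw [sum_dual_apply, if_neg hy, mul_zero, zero_sub,
      Finset.sum_congr rfl (g := fun ψ => ((ψ (w⁻¹ * y) : ℂˣ) : ℂ)) fun ψ _ => by
        rw [conj_apply, ← Units.val_mul, MonoidHom.inv_apply, ← map_inv, ← map_mul],
      sum_dual_apply]
    by_cases hw : w = y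
    · subst hw; simp [mul_comm]
    · rw [if_neg (fun e => hw (inv_mul_eq_one.1 e)), if_neg hw, mul_zero]
  simp only [hinner, Finset.sum_neg_distrib, neg_neg, Finset.sum_ite_eq', Finset.mem_univ, if_true]

theorem degree_eq (h : Semireg P) [Fintype ((P : Subgroup G) →* ℂˣ)] (χ : IrrCharacter G) :
    (χ : G → ℂ) 1 = (Nat.card (P : Subgroup G) : ℂ) * mult χ (1 : (P : Subgroup G) →* ℂˣ) -
      ∑ ψ : (P : Subgroup G) →* ℂˣ, (coeff χ ψ : ℂ) := by
  classical
  haveI := h.comm
  letI := Fintype.ofFinite (P : Subgroup G)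
  refine mul_left_cancel₀ (card_ne_zero P) ?_
  rw [mul_sub, Finset.mul_sum]
  simp only [card_mul_coeff]
  rw [Finset.sum_comm]
  have hinner : ∀ w : (P : Subgroup G), ∑ ψ : (P : Subgroup G) →* ℂˣ,
      (χ : G → ℂ) w * (1 - conj (ψ w : ℂ)) =
        (Nat.card (P : Subgroup G) : ℂ) * (χ : G → ℂ) w -
          (if w = 1 then (Nat.card (P : Subgroup G) : ℂ) * (χ : G → ℂ) w else 0) := by
    intro w
    rw [← Finset.mul_sum, Finset.sum_sub_distrib, Finset.sum_const, Finset.card_univ,
      ← Nat.card_eq_fintype_card, card_dual, nsmul_one,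
      Finset.sum_congr rfl (g := fun ψ => ((ψ w⁻¹ : ℂˣ) : ℂ)) fun ψ _ => by
        rw [conj_apply, MonoidHom.inv_apply, map_inv],
      sum_dual_apply]
    simp only [inv_eq_one]
    split_ifs <;> ring
  simp only [hinner, Finset.sum_sub_distrib, Finset.sum_ite_eq', Finset.mem_univ, if_true]
  rw [← Finset.mul_sum]
  have h1 : ∑ w : (P : Subgroup G), (χ : G → ℂ) w =
      (Nat.card (P : Subgroup G) : ℂ) * mult χ (1 : (P : Subgroup G) →* ℂˣ) := by
    rw [← sum_mult_eq]
    simp
  rw [h1, OneMemClass.coe_one]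
  ring

variable {M : Ideal AlgInt} [M.IsPrime]

open Classical in
/-- The Gram matrix. -/
theorem gram (h : Semireg P) (hM : Cfsg.IsPModular p M) [Fintype (aut P)]
    {φ ψ : (P : Subgroup G) →* ℂˣ} (hφ : φ ≠ 1) (hψ : ψ ≠ 1) :
    ∑ χ ∈ (Cfsg.principalBlock M G).toFinset, coeff χ φ * coeff χ ψ =
      (Nat.card (aut P) : ℤ) + ∑ f : aut P, (if pre f.1 ψ = φ then 1 else 0) := by
  letI := Fintype.ofFinite (P : Subgroup G)
  haveI := h.comm
  set q : ℂ := (Nat.card (P : Subgroup G) : ℂ) with hq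
  set B := Cfsg.principalBlock M G
  have hq0 : q ≠ 0 := card_ne_zero P
  refine Int.cast_injective (α := ℂ) ?_
  push_cast
  refine mul_left_cancel₀ (mul_ne_zero hq0 hq0) ?_
  rw [Finset.mul_sum]
  calc ∑ χ ∈ B.toFinset, q * q * ((coeff χ φ : ℂ) * (coeff χ ψ : ℂ))
      = ∑ χ ∈ B.toFinset, ∑ y : (P : Subgroup G), ∑ y' : (P : Subgroup G),
          (1 - conj (φ y : ℂ)) * conj (1 - conj (ψ y' : ℂ)) *
            ((χ : G → ℂ) y * conj ((χ : G → ℂ) y')) := by
        refine Finset.sum_congr rfl fun χ _ => ?_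
        rw [show q * q * ((coeff χ φ : ℂ) * (coeff χ ψ : ℂ)) =
          (q * (coeff χ φ : ℂ)) * conj (q * (coeff χ ψ : ℂ)) by
            rw [map_mul, hq, map_natCast, map_intCast]; ring,
          card_mul_coeff, card_mul_coeff, map_sum, Finset.sum_mul_sum]
        refine Finset.sum_congr rfl fun y _ => Finset.sum_congr rfl fun y' _ => ?_
        rw [map_mul]; ring
    _ = ∑ y : (P : Subgroup G), ∑ y' : (P : Subgroup G),
          (1 - conj (φ y : ℂ)) * conj (1 - conj (ψ y' : ℂ)) *
            ∑ χ : IrrCharacter G,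
              (if χ ∈ B then (χ : G → ℂ) y * conj ((χ : G → ℂ) y') else 0) := by
        rw [Finset.sum_comm]
        refine Finset.sum_congr rfl fun y _ => ?_
        rw [Finset.sum_comm]
        refine Finset.sum_congr rfl fun y' _ => ?_
        rw [← Finset.mul_sum, ← Finset.sum_filter]
        congr 1
        exact Finset.sum_congr (Finset.ext fun χ => by simp) fun _ _ => rfl
    _ = ∑ f : aut P, q * ∑ y : (P : Subgroup G),
          (1 - conj (φ y : ℂ)) * conj (1 - conj (ψ (f.1 y) : ℂ)) := by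
        simp only [Finset.mul_sum]
        rw [Finset.sum_comm (s := (Finset.univ : Finset (aut P)))]
        refine Finset.sum_congr rfl fun y _ => ?_
        by_cases hy : y = 1
        · subst hy
          simp
        have hy' : (y : G) ≠ 1 := fun e => hy (Subtype.ext e)
        have hcol := fun y' : (P : Subgroup G) => h.sum_column hM y.2 hy' y'.2
        simp only [← Finset.mul_sum]
        simp only [B, hcol]
        refine ((Finset.sum_subset (Finset.subset_univ
          ((Finset.univ : Finset (aut P)).image fun f : aut P => f.1 y)) ?_).symm.trans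
            (Finset.sum_image ?_)).trans ?_
        · intro y' _ hy''
          rw [if_neg, mul_zero]
          intro hc
          obtain ⟨f, hf, rfl⟩ := h.exists_aut hc
          exact hy'' (Finset.mem_image.2 ⟨⟨f, hf⟩, Finset.mem_univ _, rfl⟩)
        · intro f _ g _ e
          have e' : f.1 y = g.1 y := e
          have : (g.1⁻¹ * f.1) y = y := by
            show g.1⁻¹ (f.1 y) = y
            rw [e', ← MulAut.mul_apply, inv_mul_cancel, MulAut.one_apply]
          by_contra hne
          exact hy (h.eq_one_of_fixed (mul_mem (inv_mem g.2) f.2)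
            (fun e1 => hne (Subtype.ext (inv_mul_eq_one.1 e1).symm)) this)
        · simp only [Finset.mul_sum]
          refine Finset.sum_congr rfl fun f _ => ?_
          rw [if_pos (isConj_aut f.2 y)]
          ring
    _ = q * q * ((Nat.card (aut P) : ℂ) +
          ∑ f : aut P, (if pre f.1 ψ = φ then (1 : ℂ) else 0)) := by
        rw [Nat.card_eq_fintype_card, ← Finset.card_univ, Finset.cast_card,
          ← Finset.sum_add_distrib, Finset.mul_sum]
        refine Finset.sum_congr rfl fun f _ => ?_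
        rw [Finset.sum_congr rfl (g := fun y => 1 - ((φ⁻¹ y : ℂˣ) : ℂ) - (pre f.1 ψ y : ℂ) +
          (((φ⁻¹ * pre f.1 ψ) y : ℂˣ) : ℂ)) fun y _ => by
            rw [map_sub, map_one, Complex.conj_conj, conj_apply, MonoidHom.mul_apply,
              Units.val_mul, pre_apply]
            ring]
        rw [Finset.sum_add_distrib, Finset.sum_sub_distrib, Finset.sum_sub_distrib, sum_apply,
          sum_apply, sum_apply, Finset.sum_const,
          Finset.card_univ, nsmul_one, ← Nat.card_eq_fintype_card, ← hq]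
        simp only [inv_ne hφ, pre_ne_one hψ, if_false, inv_mul_eq_one (a := φ),
          eq_comm (a := φ)]
        split_ifs <;> ring

open Classical in
/-- The vectors are orthogonal to the block on the p-regular elements. -/
theorem sum_coeff_mul_eq_zero (hM : Cfsg.IsPModular p M) (ψ : (P : Subgroup G) →* ℂˣ) {g : G}
    (hg : ¬ p ∣ orderOf g) :
    ∑ χ ∈ (Cfsg.principalBlock M G).toFinset, (coeff χ ψ : ℂ) * (χ : G → ℂ) g = 0 := by
  letI := Fintype.ofFinite (P : Subgroup G)
  have hB : IsBlockUnion M (Cfsg.principalBlock M G) :=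
    isBlockUnion_of_isPBlock isPBlock_principalBlock
  refine (mul_eq_zero.1 (?_ : (Nat.card (P : Subgroup G) : ℂ) * _ = 0)).resolve_left (card_ne_zero P)
  rw [Finset.mul_sum]
  have hconj : ∀ χ : IrrCharacter G, (Nat.card (P : Subgroup G) : ℂ) * (coeff χ ψ : ℂ) =
      ∑ y : (P : Subgroup G), conj ((χ : G → ℂ) y) * (1 - (ψ y : ℂ)) := by
    intro χ
    rw [show (Nat.card (P : Subgroup G) : ℂ) * (coeff χ ψ : ℂ) =
      conj ((Nat.card (P : Subgroup G) : ℂ) * (coeff χ ψ : ℂ)) by
        rw [map_mul, map_natCast, map_intCast], card_mul_coeff, map_sum]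
    refine Finset.sum_congr rfl fun y _ => ?_
    rw [map_mul, map_sub, map_one, Complex.conj_conj]
  simp only [← mul_assoc, hconj, Finset.sum_mul]
  rw [Finset.sum_comm]
  refine Finset.sum_eq_zero fun y _ => ?_
  by_cases hy : y = 1
  · subst hy; simp
  have h0 := sum_union_mul_conj_eq_zero hM hB hg
    (dvd_orderOf_of_mem y.2 fun e => hy (Subtype.ext e))
  calc ∑ χ ∈ (Cfsg.principalBlock M G).toFinset,
        conj ((χ : G → ℂ) y) * (1 - (ψ y : ℂ)) * (χ : G → ℂ) g
      = (1 - (ψ y : ℂ)) * ∑ χ : IrrCharacter G, (if χ ∈ Cfsg.principalBlock M G then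
          (χ : G → ℂ) g * conj ((χ : G → ℂ) y) else 0) := by
        rw [← Finset.sum_filter, Finset.mul_sum]
        exact Finset.sum_congr (Finset.ext fun χ => by simp) fun χ _ => by ring
    _ = 0 := by rw [h0, mul_zero]

/-- No vector vanishes. -/
theorem exists_coeff_ne_zero (h : Semireg P) (hM : Cfsg.IsPModular p M)
    (hP : Nat.card (P : Subgroup G) ≠ 1) {χ : IrrCharacter G}
    (hχ : χ ∈ Cfsg.principalBlock M G) : ∃ o : Orb P, coeff χ (rep o) ≠ 0 := by
  classical
  haveI := h.comm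
  haveI := finite_lin h
  haveI := Fintype.ofFinite ((P : Subgroup G) →* ℂˣ)
  by_contra! h0
  have hall : ∀ ψ : (P : Subgroup G) →* ℂˣ, coeff χ ψ = 0 := fun ψ => by
    by_cases hψ : ψ = 1
    · rw [hψ, coeff_one]
    obtain ⟨f, hf, he⟩ := exists_pre_rep ψ hψ
    rw [← he, coeff_pre χ hf, h0]
  have hvan : ∀ y : (P : Subgroup G), y ≠ 1 → (χ : G → ℂ) y = 0 := fun y hy => by
    simp [apply_eq_neg_sum h χ hy, hall]
  have hdef := defect_zero_of_vanishing hM χ fun g hg => by
    obtain ⟨S, hS⟩ := (IsPGroup.of_card (p := p) (n := 1)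
      (show Nat.card (Subgroup.zpowers g) = p ^ 1 by rw [Nat.card_zpowers, hg, pow_one])).exists_le_sylow
    obtain ⟨a, ha⟩ := MulAction.exists_smul_eq G S P
    have hgP : a * g * a⁻¹ ∈ (P : Subgroup G) := by
      rw [← ha, Sylow.coe_subgroup_smul]
      exact Subgroup.smul_mem_pointwise_smul _ _ _ (hS (Subgroup.mem_zpowers g))
    rw [← Characters.isClassFunction_of_isIrr χ.2 g a]
    refine hvan ⟨_, hgP⟩ fun e => ?_
    have e' : a * g * a⁻¹ = 1 := congrArg Subtype.val e
    rw [mul_inv_eq_one, mul_eq_left] at e'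
    rw [e', orderOf_one] at hg
    exact (Fact.out : p.Prime).ne_one hg.symm
  have hone : Cfsg.blockOf M (χ : G → ℂ) = {χ} := by
    refine (defect_zero_iff hM χ).1 fun hd => ?_
    have h1 := ((Fact.out : p.Prime).dvd_iff_one_le_factorization ?_).1 hd
    · rw [Nat.factorization_div (charDegree_dvd_card χ), Finsupp.tsub_apply, hdef] at h1
      omega
    · exact (Nat.div_pos (Nat.le_of_dvd Nat.card_pos (charDegree_dvd_card χ))
        (Nat.pos_of_ne_zero (charDegree_ne_zero χ))).ne'
  have h1 : trivChar G ∈ Cfsg.blockOf M (χ : G → ℂ) := by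
    rw [principalBlock_eq] at hχ
    exact mem_blockOf.2 (sameBlock_symm (mem_blockOf.1 hχ))
  rw [hone, Set.mem_singleton_iff] at h1
  haveI : Nontrivial (P : Subgroup G) :=
    Finite.one_lt_card_iff_nontrivial.1 (lt_of_le_of_ne Nat.card_pos (Ne.symm hP))
  obtain ⟨y, hy⟩ := exists_ne (1 : (P : Subgroup G))
  have h2 := hvan y hy
  rw [← h1] at h2
  exact one_ne_zero h2

end CfsgLib.BlocksFrobenius
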