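import Cfsg.Agent.BlocksFrobenius.Dual
import Cfsg.Agent.BlocksLocal.PrincipalSection
import Cfsg.Agent.ZStar.ThirdMain
import Mathlib.GroupTheory.Transfer

/-!
# The principal block on an abelian Sylow subgroup with a semiregular normalizer action

Centralizers of nonidentity elements of `P` have normal p-complements; the principal block is
constant on their sections and its columns are orthogonal.
-/

set_option autoImplicit false
set_option linter.style.haveILetI false
set_option linter.unusedSectionVars false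

namespace CfsgLib.BlocksFrobenius

open Cfsg CfsgLib.Blocks CfsgLib.PrincipalBlock
open scoped ComplexConjugate

universe u

variable {G : Type u} [Group G] [Fintype G] {p : ℕ} [Fact p.Prime]

/-- The hypothesis: `P` is abelian and `C(y) ∩ N(P) = C(P)` for `1 ≠ y ∈ P`. -/
structure Semireg (P : Sylow p G) : Prop where
  comm : IsMulCommutative (P : Subgroup G)
  free : ∀ y : G, y ∈ (P : Subgroup G) → y ≠ 1 →
    Subgroup.centralizer ({y} : Set G) ⊓ Subgroup.normalizer ((P : Subgroup G) : Set G) =
      Subgroup.centralizer ((P : Subgroup G) : Set G)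

/-- The automorphisms of `P` induced by its normalizer. -/
noncomputable def aut (P : Sylow p G) : Subgroup (MulAut (P : Subgroup G)) :=
  (Subgroup.normalizerMonoidHom (P : Subgroup G)).range

theorem card_aut (P : Sylow p G) :
    Nat.card (aut P) = (Subgroup.centralizer ((P : Subgroup G) : Set G)).relIndex
      (Subgroup.normalizer ((P : Subgroup G) : Set G)) := by
  rw [aut, ← Subgroup.index_ker, Subgroup.normalizerMonoidHom_ker, Subgroup.relIndex]

theorem coe_aut_apply {P : Sylow p G} {n : G}
    (hn : n ∈ Subgroup.normalizer ((P : Subgroup G) : Set G)) (w : (P : Subgroup G)) :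
    ((Subgroup.normalizerMonoidHom (P : Subgroup G) ⟨n, hn⟩ w : (P : Subgroup G)) : G) =
      n * w * n⁻¹ := rfl

variable {P : Sylow p G}

theorem Semireg.le_centralizer_singleton (h : Semireg P) {y : G} (hy : y ∈ (P : Subgroup G)) :
    (P : Subgroup G) ≤ Subgroup.centralizer ({y} : Set G) := fun w hw =>
  Subgroup.mem_centralizer_singleton_iff.2
    (congrArg Subtype.val (h.comm.is_comm.comm (⟨w, hw⟩ : (P : Subgroup G)) ⟨y, hy⟩))

/-- A nontrivial induced automorphism fixes only the identity. -/
theorem Semireg.eq_one_of_fixed (h : Semireg P) {f : MulAut (P : Subgroup G)} (hf : f ∈ aut P)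
    (hf1 : f ≠ 1) {w : (P : Subgroup G)} (hw : f w = w) : w = 1 := by
  obtain ⟨⟨n, hn⟩, rfl⟩ := hf
  by_contra hne
  refine hf1 ?_
  have h1 : n ∈ Subgroup.centralizer ({(w : G)} : Set G) ⊓
      Subgroup.normalizer ((P : Subgroup G) : Set G) :=
    ⟨Subgroup.mem_centralizer_singleton_iff.2 (mul_inv_eq_iff_eq_mul.1
      ((coe_aut_apply hn w).symm.trans (congrArg Subtype.val hw))), hn⟩
  rw [h.free _ w.2 (fun e => hne (Subtype.ext e))] at h1
  rw [← MonoidHom.mem_ker, Subgroup.normalizerMonoidHom_ker]
  exact h1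

theorem isPow_of_mem {y : G} (hy : y ∈ (P : Subgroup G)) : ∃ k, orderOf y = p ^ k := by
  obtain ⟨k, hk⟩ := IsPGroup.iff_orderOf.1 P.2 ⟨y, hy⟩
  exact ⟨k, by rw [← hk, Subgroup.orderOf_mk]⟩

theorem dvd_orderOf_of_mem {y : G} (hy : y ∈ (P : Subgroup G)) (hy1 : y ≠ 1) : p ∣ orderOf y := by
  obtain ⟨k, hk⟩ := isPow_of_mem hy
  rcases k with _ | k
  · exact absurd (orderOf_eq_one_iff.1 (by simpa using hk)) hy1
  · exact hk ▸ dvd_pow_self p k.succ_ne_zero

theorem Semireg.exists_complement (h : Semireg P) {y : G} (hy : y ∈ (P : Subgroup G))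
    (hy1 : y ≠ 1) :
    ∃ K : Subgroup (Subgroup.centralizer ({y} : Set G)), K.Normal ∧ ¬ p ∣ Nat.card K ∧
      K.index = Nat.card (P : Subgroup G) := by
  have hle := h.le_centralizer_singleton hy
  set S : Sylow p (Subgroup.centralizer ({y} : Set G)) := P.subtype hle
  have hS : Subgroup.normalizer (S : Set (Subgroup.centralizer ({y} : Set G))) ≤
      Subgroup.centralizer (S : Set (Subgroup.centralizer ({y} : Set G))) := by
    intro g hg
    have hgN : (g : G) ∈ Subgroup.normalizer ((P : Subgroup G) : Set G) := by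
      refine Subgroup.mem_normalizer_iff.2 fun w => ?_
      have hmem : ∀ v : Subgroup.centralizer ({y} : Set G),
          v ∈ (S : Subgroup (Subgroup.centralizer ({y} : Set G))) ↔ (v : G) ∈ (P : Subgroup G) :=
        fun v => by rw [Sylow.coe_subtype, Subgroup.mem_subgroupOf]
      refine ⟨fun hw => ?_, fun hw => ?_⟩
      · exact (hmem _).1 ((Subgroup.mem_normalizer_iff.1 hg ⟨w, hle hw⟩).1 ((hmem _).2 hw))
      · have hw' : w ∈ Subgroup.centralizer ({y} : Set G) := by
          have := mul_mem (mul_mem (inv_mem g.2) (hle hw)) g.2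
          rwa [show (g : G)⁻¹ * ((g : G) * w * (g : G)⁻¹) * (g : G) = w by group] at this
        exact (hmem ⟨w, hw'⟩).1 ((Subgroup.mem_normalizer_iff.1 hg _).2 ((hmem _).2 hw))
    have hgC : (g : G) ∈ Subgroup.centralizer ((P : Subgroup G) : Set G) :=
      h.free y hy hy1 ▸ ⟨g.2, hgN⟩
    refine Subgroup.mem_centralizer_iff.2 fun w hw => ?_
    have hw' : ((w : Subgroup.centralizer ({y} : Set G)) : G) ∈ (P : Subgroup G) := by
      have hw2 : w ∈ (S : Subgroup (Subgroup.centralizer ({y} : Set G))) := hw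
      rwa [Sylow.coe_subtype, Subgroup.mem_subgroupOf] at hw2
    exact Subtype.ext (Subgroup.mem_centralizer_iff.1 hgC _ hw')
  refine ⟨(MonoidHom.transferSylow S hS).ker, inferInstance,
    MonoidHom.not_dvd_card_ker_transferSylow S hS, ?_⟩
  rw [(MonoidHom.ker_transferSylow_isComplement' S hS).symm.index_eq_card]
  exact Nat.card_congr (Subgroup.subgroupOfEquivOfLe hle).toEquiv

/-- p-regular elements lie in a normal p-complement. -/
theorem mem_of_regular {H : Type*} [Group H] [Finite H] (K : Subgroup H) [K.Normal] {k : ℕ}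
    (hK : K.index = p ^ k) {z : H} (hz : ¬ p ∣ orderOf z) : z ∈ K := by
  rw [← QuotientGroup.eq_one_iff]
  refine orderOf_eq_one_iff.1 (Nat.dvd_one.1 ?_)
  have h1 : orderOf (QuotientGroup.mk z : H ⧸ K) ∣ orderOf z := orderOf_map_dvd (QuotientGroup.mk' K) z
  have h2 : orderOf (QuotientGroup.mk z : H ⧸ K) ∣ p ^ k := by
    rw [← hK, Subgroup.index]; exact orderOf_dvd_natCard _
  rw [← Nat.coprime_iff_gcd_eq_one.1 (((Fact.out : p.Prime).coprime_iff_not_dvd.2 hz).symm.pow_right k)]
  exact Nat.dvd_gcd h1 h2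

variable {M : Ideal AlgInt} [M.IsPrime]

/-- Values on a section. -/
theorem Semireg.apply_of_isPPart (h : Semireg P) (hM : Cfsg.IsPModular p M) {χ : IrrCharacter G}
    (hχ : χ ∈ Cfsg.principalBlock M G) {z y : G} (hz : Cfsg.IsPPart p z y)
    (hy : y ∈ (P : Subgroup G)) (hy1 : y ≠ 1) : (χ : G → ℂ) z = (χ : G → ℂ) y := by
  obtain ⟨k, rfl, hc, hpow, hk⟩ := hz
  obtain ⟨K, hKn, hK, hKi⟩ := h.exists_complement hy hy1
  obtain ⟨n, hn⟩ := P.2.exists_card_eq
  set k' : Subgroup.centralizer ({y} : Set G) :=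
    ⟨k, Subgroup.mem_centralizer_singleton_iff.2 hc.eq.symm⟩
  have hk' : ¬ p ∣ orderOf k' := by
    rw [← Subgroup.orderOf_coe]; exact hk
  exact ZStar.apply_mul_eq_of_mem hM hpow hχ K hK (y := k')
    (mem_of_regular K (hKi.trans hn) hk')

open Classical in
/-- Column orthogonality. -/
theorem Semireg.sum_column (h : Semireg P) (hM : Cfsg.IsPModular p M) {y y' : G}
    (hy : y ∈ (P : Subgroup G)) (hy1 : y ≠ 1) (hy' : y' ∈ (P : Subgroup G)) :
    ∑ χ : IrrCharacter G, (if χ ∈ Cfsg.principalBlock M G then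
        (χ : G → ℂ) y * conj ((χ : G → ℂ) y') else 0) =
      if IsConj y y' then (Nat.card (P : Subgroup G) : ℂ) else 0 := by
  set C := Subgroup.centralizer ({y} : Set G)
  haveI := Fintype.ofFinite C
  have hyo := isPow_of_mem hy
  obtain ⟨K, hKn, hK, hKi⟩ := h.exists_complement hy hy1
  obtain ⟨n, hn⟩ := P.2.exists_card_eq
  have hval : ∀ χ : IrrCharacter G,
      (if χ ∈ Cfsg.principalBlock M G then (χ : G → ℂ) y else 0) =
        ∑ k : C, Cfsg.blockCoeff (Cfsg.principalBlock M C) k * (χ : G → ℂ) (y * (k : G)) := by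
    intro χ
    have h := BlocksLocal.blockPart_principal_translate hM hyo χ (y := (1 : C))
      (by rw [orderOf_one]; exact (Fact.out : p.Prime).not_dvd_one)
    rw [blockPart_eq_sum _ (isClassFunction_translate (χ : G → ℂ)
      (Characters.isClassFunction_of_isIrr χ.2) y)] at h
    simp only [mul_one, OneMemClass.coe_one] at h
    exact h.symm
  calc ∑ χ : IrrCharacter G, (if χ ∈ Cfsg.principalBlock M G then
        (χ : G → ℂ) y * conj ((χ : G → ℂ) y') else 0)
      = ∑ χ : IrrCharacter G, (∑ k : C, Cfsg.blockCoeff (Cfsg.principalBlock M C) k *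
          (χ : G → ℂ) (y * (k : G))) * conj ((χ : G → ℂ) y') := by
        refine Finset.sum_congr rfl fun χ _ => ?_
        rw [← hval]; split_ifs <;> simp
    _ = ∑ k : C, Cfsg.blockCoeff (Cfsg.principalBlock M C) k *
          (Nat.card {g : G // g * (y * (k : G)) * g⁻¹ = y'} : ℂ) := by
        simp only [Finset.sum_mul]
        rw [Finset.sum_comm]
        refine Finset.sum_congr rfl fun k _ => ?_
        rw [← Characters.sum_irr_mul_conj, Finset.mul_sum]
        exact Finset.sum_congr rfl fun χ _ => by ring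
    _ = Cfsg.blockCoeff (Cfsg.principalBlock M C) 1 *
          (Nat.card {g : G // g * (y * ((1 : C) : G)) * g⁻¹ = y'} : ℂ) := by
        refine Finset.sum_eq_single (1 : C) (fun k _ hk => ?_) (by simp)
        by_cases hreg : p ∣ orderOf k
        · rw [blockCoeff_eq_zero_of_singular hM
            (isBlockUnion_of_isPBlock (isPBlock_principalBlock (G := C))) hreg, zero_mul]
        · haveI : IsEmpty {g : G // g * (y * (k : G)) * g⁻¹ = y'} := ⟨fun g => hk ?_⟩
          · simp
          have hreg' : ¬ p ∣ orderOf (k : G) := by rwa [Subgroup.orderOf_coe]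
          have h1 := isPPart_conj (isPPart_of_mul
            (Subgroup.mem_centralizer_singleton_iff.1 k.2).symm hyo hreg') g.1
          rw [g.2] at h1
          have h2 : Cfsg.IsPPart p y' y' := by
            have := isPPart_of_mul (p := p) (Commute.one_right y') (isPow_of_mem hy')
              (by rw [orderOf_one]; exact (Fact.out : p.Prime).not_dvd_one)
            rwa [mul_one] at this
          have h3 := isPPart_unique (Fact.out : p.Prime) h1 h2
          exact Subtype.ext
            (mul_eq_left.1 (mul_left_cancel (mul_right_cancel (g.2.trans h3.symm))))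
    _ = if IsConj y y' then (Nat.card (P : Subgroup G) : ℂ) else 0 := by
        have hbc := BlocksLocal.blockCoeff_principal_of_normal_complement hM K hK
          ⟨n, hKi.trans hn⟩ (1 : C)
        rw [Set.indicator_of_mem (SetLike.mem_coe.2 K.one_mem), hKi, mul_one] at hbc
        simp only [OneMemClass.coe_one, mul_one]
        rw [← Characters.sum_irr_mul_conj]
        split_ifs with h
        · rw [Characters.sum_irr_mul_conj_of_isConj h, mul_comm]
          exact hbc
        · rw [Characters.sum_irr_mul_conj_of_not_isConj h, mul_zero]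

/-- Conjugacy in `P` is controlled by the normalizer. -/
theorem Semireg.exists_aut (h : Semireg P) {y y' : (P : Subgroup G)}
    (hc : IsConj (y : G) (y' : G)) : ∃ f ∈ aut P, f y = y' := by
  obtain ⟨g, hg⟩ := isConj_iff.1 hc
  haveI := h.comm
  obtain ⟨n, hn, he⟩ := P.conj_eq_normalizer_conj_of_mem (y : G) g⁻¹ y.2
    (by rw [inv_inv, hg]; exact y'.2)
  rw [inv_inv, hg] at he
  refine ⟨_, ⟨⟨n⁻¹, inv_mem hn⟩, rfl⟩, Subtype.ext ?_⟩
  rw [coe_aut_apply, inv_inv, he]

theorem isConj_aut {f : MulAut (P : Subgroup G)} (hf : f ∈ aut P) (y : (P : Subgroup G)) :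
    IsConj (y : G) ((f y : (P : Subgroup G)) : G) := by
  obtain ⟨⟨n, hn⟩, rfl⟩ := hf
  exact isConj_iff.2 ⟨n, (coe_aut_apply hn y).symm⟩

end CfsgLib.BlocksFrobenius
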