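import Cfsg.Agent.BlocksFrobenius.Coeff
import Cfsg.Agent.Characters.Exceptional
import Cfsg.Agent.Coherence.Virtual

/-!
# The exceptional family in the principal block

With at least two orbits the vectors `oc` differ between orbits by one signed unit vector at each
exceptional character and are constant on the rest of the block.
-/

set_option autoImplicit false
set_option linter.style.haveILetI false
set_option linter.unusedSectionVars false

namespace CfsgLib.BlocksFrobenius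

open Cfsg CfsgLib.Blocks CfsgLib.PrincipalBlock
open scoped ComplexConjugate

universe u

variable {G : Type u} [Group G] [Fintype G] {p : ℕ} [Fact p.Prime] {P : Sylow p G}

/-- The vector indexed by orbits. -/
noncomputable def oc (χ : IrrCharacter G) (o : Orb P) : ℤ := coeff χ (rep o)

theorem oc_trivChar (o : Orb P) : oc (trivChar G) o = 1 := coeff_trivChar (rep_ne_one o)

open Classical in
theorem apply_eq_neg_oc (h : Semireg P) [Fintype (Orb P)] (χ : IrrCharacter G)
    {y : (P : Subgroup G)} (hy : y ≠ 1) :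
    (χ : G → ℂ) y = -∑ o : Orb P, (oc χ o : ℂ) * orbSum o y := by
  haveI := finite_lin h
  haveI := Fintype.ofFinite ((P : Subgroup G) →* ℂˣ)
  haveI := Fintype.ofFinite (aut P)
  rw [apply_eq_neg_sum h χ hy, sum_lin h, coeff_one, Int.cast_zero, zero_mul, zero_add]
  refine congrArg Neg.neg (Finset.sum_congr rfl fun o _ => ?_)
  rw [orbSum_eq, Finset.mul_sum]
  refine Finset.sum_congr rfl fun f _ => ?_
  rw [coeff_pre χ f.2, pre_apply]
  rfl

open Classical in
theorem charDegree_eq (h : Semireg P) [Fintype (Orb P)] (χ : IrrCharacter G) :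
    (Cfsg.charDegree (χ : G → ℂ) : ℤ) =
      (Nat.card (P : Subgroup G) : ℤ) * mult χ (1 : (P : Subgroup G) →* ℂˣ) -
        (Nat.card (aut P) : ℤ) * ∑ o : Orb P, oc χ o := by
  haveI := finite_lin h
  haveI := Fintype.ofFinite ((P : Subgroup G) →* ℂˣ)
  haveI := Fintype.ofFinite (aut P)
  refine Int.cast_injective (α := ℂ) ?_
  push_cast
  rw [charDegree_cast, degree_eq h χ, sum_lin h, coeff_one, Int.cast_zero, zero_add, Finset.mul_sum]
  congr 1
  refine Finset.sum_congr rfl fun o _ => ?_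
  rw [Finset.sum_congr rfl (g := fun _ => (oc χ o : ℂ)) fun f _ => by
    rw [coeff_pre χ f.2]; rfl, Finset.sum_const, Finset.card_univ, nsmul_eq_mul,
    Nat.card_eq_fintype_card]

variable {M : Ideal AlgInt} [M.IsPrime]

open Classical in
theorem gram_oc (h : Semireg P) (hM : Cfsg.IsPModular p M) (o o' : Orb P) :
    ∑ χ ∈ (Cfsg.principalBlock M G).toFinset, oc χ o * oc χ o' =
      (Nat.card (aut P) : ℤ) + if o = o' then 1 else 0 := by
  haveI := Fintype.ofFinite (aut P)
  refine (gram h hM (rep_ne_one o) (rep_ne_one o')).trans ?_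
  congr 1
  by_cases ho : o = o'
  · subst ho
    rw [if_pos rfl, Finset.sum_eq_single (1 : aut P)
      (fun f _ hf => if_neg fun e => hf (Subtype.ext
        ((pre_eq_self_iff h f.2 (rep_ne_one o)).1 e))) (by simp)]
    simp [pre_one]
  · rw [if_neg ho]
    refine Finset.sum_eq_zero fun f _ => if_neg fun e => ho ?_
    rw [← cls_rep o, ← cls_pre f.2 o']
    congr 1
    exact e.symm

open Classical in
theorem sum_oc_mul_eq_zero (hM : Cfsg.IsPModular p M) (o : Orb P) {g : G}
    (hg : ¬ p ∣ orderOf g) :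
    ∑ χ ∈ (Cfsg.principalBlock M G).toFinset, (oc χ o : ℂ) * (χ : G → ℂ) g = 0 :=
  sum_coeff_mul_eq_zero hM _ hg

/-- An exceptional family in the principal block. -/
structure Frame (M : Ideal AlgInt) (P : Sylow p G) [DecidableEq (Orb P)] where
  η : Orb P → IrrCharacter G
  inj : Function.Injective η
  mem : ∀ o, η o ∈ Cfsg.principalBlock M G
  d : ℤ
  δ : ℤ
  sign : δ = 1 ∨ δ = -1
  oc_eta : ∀ o u, oc (η u) o = d - δ * if o = u then 1 else 0
  oc_rest : ∀ χ ∈ Cfsg.principalBlock M G, χ ∉ Set.range η → ∀ o o' : Orb P, oc χ o = oc χ o'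

theorem exists_frame (h : Semireg P) (hM : Cfsg.IsPModular p M) [Fintype (Orb P)]
    [DecidableEq (Orb P)] (h2 : 2 ≤ Fintype.card (Orb P)) : Nonempty (Frame M P) := by
  classical
  haveI : Nontrivial (Orb P) := Fintype.one_lt_card_iff_nontrivial.1 h2
  obtain ⟨i₀, i₁, hi⟩ := exists_pair_ne (Orb P)
  set B := (Cfsg.principalBlock M G).toFinset with hB
  set τ : Orb P → G → ℂ := fun o =>
    ∑ χ ∈ B, ((oc χ o - oc χ i₀ : ℤ) : ℂ) • (χ : G → ℂ) with hτ
  have hcoef : ∀ o (φ : IrrCharacter G), Cfsg.classInner (τ o) (φ : G → ℂ) =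
      if φ ∈ B then ((oc φ o - oc φ i₀ : ℤ) : ℂ) else 0 := by
    intro o φ
    rw [hτ, Characters.classInner_sum_left]
    simp only [Characters.classInner_smul_left, Characters.classInner_irr]
    simp
  have hgen : ∀ o, Cfsg.IsGeneralizedCharacter G (τ o) := fun o =>
    Coherence.isGen_sum _ _ fun χ _ =>
      Coherence.isGen_intCast_smul (Coherence.isGen_of_isIrr χ.2) _
  have hone : ∀ o, τ o 1 = 0 := fun o => by
    simp only [hτ, Finset.sum_apply, Pi.smul_apply, smul_eq_mul, Int.cast_sub, sub_mul,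
      Finset.sum_sub_distrib, hB]
    rw [sum_oc_mul_eq_zero hM o (by rw [orderOf_one]; exact (Fact.out : p.Prime).not_dvd_one),
      sum_oc_mul_eq_zero hM i₀ (by rw [orderOf_one]; exact (Fact.out : p.Prime).not_dvd_one),
      sub_zero]
  have hgram : ∀ o o', o ≠ i₀ → o' ≠ i₀ →
      Cfsg.classInner (τ o) (τ o') = if o = o' then 2 else 1 := by
    intro o o' ho ho'
    have hz : ∑ χ ∈ B, (oc χ o - oc χ i₀) * (oc χ o' - oc χ i₀) =
        if o = o' then 2 else 1 := by
      simp only [sub_mul, mul_sub, Finset.sum_sub_distrib, hB, gram_oc h hM, if_neg ho,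
        if_neg ho'.symm]
      split_ifs <;> ring
    calc Cfsg.classInner (τ o) (τ o') =
          Cfsg.classInner (τ o) (∑ χ ∈ B, ((oc χ o' - oc χ i₀ : ℤ) : ℂ) • (χ : G → ℂ)) := rfl
      _ = ∑ χ ∈ B, (((oc χ o - oc χ i₀) * (oc χ o' - oc χ i₀) : ℤ) : ℂ) := by
        rw [Characters.classInner_sum_right]
        refine Finset.sum_congr rfl fun χ hχ => ?_
        rw [Characters.classInner_smul_right, hcoef, if_pos hχ, map_intCast]
        push_cast; ring
      _ = _ := by rw [← Int.cast_sum, hz]; split_ifs <;> norm_num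
  have h0 : τ i₀ = 0 := by simp [hτ]
  obtain ⟨ε, hε, μ, hμ, hμinj, hτμ⟩ :=
    Characters.exists_exceptional i₀ τ h0 hgen hone hgram
  obtain ⟨εz, rfl, hεz⟩ : ∃ z : ℤ, (z : ℂ) = ε ∧ (z = 1 ∨ z = -1) := by
    rcases hε with rfl | rfl
    exacts [⟨1, by simp, Or.inl rfl⟩, ⟨-1, by simp, Or.inr rfl⟩]
  set η : Orb P → IrrCharacter G := fun o => ⟨μ o, hμ o⟩ with hη
  have hηinj : Function.Injective η := fun o o' e => hμinj (congrArg Subtype.val e)
  have hrel : ∀ o (φ : IrrCharacter G), (if φ ∈ B then ((oc φ o - oc φ i₀ : ℤ) : ℂ) else 0) =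
      (εz : ℂ) * ((if φ = η o then 1 else 0) - if φ = η i₀ then 1 else 0) := by
    intro o φ
    rw [← hcoef, hτμ, Characters.classInner_smul_left, Characters.classInner_sub_left,
      show μ o = (η o : G → ℂ) from rfl, show μ i₀ = (η i₀ : G → ℂ) from rfl,
      Characters.classInner_irr, Characters.classInner_irr]
    simp [eq_comm]
  have hmem : ∀ o, η o ∈ Cfsg.principalBlock M G := by
    intro o
    by_contra hno
    have hno' : η o ∉ B := fun e => hno (Set.mem_toFinset.1 e)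
    obtain ⟨o', ho'⟩ : ∃ o', (o = i₀ ∧ o' ≠ i₀) ∨ (o ≠ i₀ ∧ o' = o) := by
      by_cases ho : o = i₀
      · exact ⟨i₁, Or.inl ⟨ho, hi.symm⟩⟩
      · exact ⟨o, Or.inr ⟨ho, rfl⟩⟩
    have h1 := hrel o' (η o)
    rw [if_neg hno'] at h1
    simp only [hηinj.eq_iff] at h1
    rcases ho' with ⟨rfl, ho'⟩ | ⟨ho, rfl⟩
    · rw [if_neg (Ne.symm ho'), if_pos rfl] at h1
      rcases hεz with rfl | rfl <;> simp at h1
    · rw [if_pos rfl, if_neg ho] at h1
      rcases hεz with rfl | rfl <;> simp at h1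
  have hrelZ : ∀ o (φ : IrrCharacter G), φ ∈ Cfsg.principalBlock M G →
      oc φ o = oc φ i₀ + εz * ((if φ = η o then 1 else 0) - if φ = η i₀ then 1 else 0) := by
    intro o φ hφ
    have h1 := hrel o φ
    rw [if_pos (Set.mem_toFinset.2 hφ)] at h1
    have : oc φ o - oc φ i₀ = εz * ((if φ = η o then 1 else 0) - if φ = η i₀ then 1 else 0) := by
      refine Int.cast_injective (α := ℂ) (h1.trans ?_)
      push_cast
      split_ifs <;> simp
    linarith
  set b : Orb P → ℤ := fun u => oc (η u) i₀ - εz * if u = i₀ then 1 else 0 with hb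
  have hb' : ∀ o u, oc (η u) o = b u + εz * if o = u then 1 else 0 := fun o u => by
    rw [hrelZ o _ (hmem u), hb]
    simp only [hηinj.eq_iff, eq_comm (a := u) (b := o)]
    ring
  have hrest : ∀ χ ∈ Cfsg.principalBlock M G, χ ∉ Set.range η → ∀ o o' : Orb P,
      oc χ o = oc χ o' := fun χ hχ hr o o' => by
    have e : ∀ u, χ ≠ η u := fun u e => hr ⟨u, e.symm⟩
    rw [hrelZ o χ hχ, hrelZ o' χ hχ, if_neg (e o), if_neg (e o'), if_neg (e i₀)]
  set X := B \ Finset.univ.image η with hX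
  have hsplit : ∀ F : IrrCharacter G → ℤ,
      ∑ χ ∈ B, F χ = ∑ χ ∈ X, F χ + ∑ u : Orb P, F (η u) := fun F => by
    rw [← Finset.sum_sdiff (s₁ := Finset.univ.image η) (s₂ := B),
      Finset.sum_image fun a _ b _ e => hηinj e]
    intro φ hφ
    obtain ⟨u, -, rfl⟩ := Finset.mem_image.1 hφ
    exact Set.mem_toFinset.2 (hmem u)
  have hconst : ∀ u, b u = b i₀ := by
    intro u
    have hsq : ∀ o, ∑ χ ∈ X, oc χ i₀ ^ 2 + ∑ v, b v ^ 2 + 2 * εz * b o + 1 =
        (Nat.card (aut P) : ℤ) + 1 := fun o => by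
      have h1 := gram_oc h hM o o (M := M)
      rw [← hB, hsplit, if_pos rfl] at h1
      have e1 : ∑ χ ∈ X, oc χ o * oc χ o = ∑ χ ∈ X, oc χ i₀ ^ 2 :=
        Finset.sum_congr rfl fun χ hχ => by
          rw [hX, Finset.mem_sdiff] at hχ
          rw [hrest χ (Set.mem_toFinset.1 hχ.1) (fun ⟨v, hv⟩ => hχ.2
            (Finset.mem_image.2 ⟨v, Finset.mem_univ _, hv⟩)) o i₀, sq]
      rw [e1, Finset.sum_congr rfl (g := fun v => b v ^ 2 +
        (2 * εz * b v * (if o = v then 1 else 0) + if o = v then 1 else 0)) fun v _ => by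
          rw [hb']
          rcases hεz with rfl | rfl <;> split_ifs <;> ring] at h1
      rw [← h1]
      simp [Finset.sum_add_distrib]
      ring
    have := (hsq u).trans (hsq i₀).symm
    rcases hεz with rfl | rfl <;> linarith
  exact ⟨{
    η := η, inj := hηinj, mem := hmem, d := b i₀, δ := -εz
    sign := by rcases hεz with rfl | rfl <;> simp
    oc_eta := fun o u => by rw [hb', hconst u]; ring
    oc_rest := hrest }⟩

namespace Frame

variable [DecidableEq (Orb P)] (F : Frame M P)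

/-- The members of the block outside the family. -/
noncomputable def rest [Fintype (Orb P)] : Finset (IrrCharacter G) :=
  haveI := Classical.decEq (IrrCharacter G)
  haveI := Classical.decPred (· ∈ Cfsg.principalBlock M G)
  (Finset.univ.filter (· ∈ Cfsg.principalBlock M G)) \ Finset.univ.image F.η

theorem mem_rest [Fintype (Orb P)] {χ : IrrCharacter G} :
    χ ∈ F.rest ↔ χ ∈ Cfsg.principalBlock M G ∧ χ ∉ Set.range F.η := by
  classical
  simp [rest, Finset.mem_sdiff]

open Classical in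
theorem sum_block [Fintype (Orb P)] {R : Type*} [AddCommMonoid R] (f : IrrCharacter G → R) :
    ∑ χ ∈ (Cfsg.principalBlock M G).toFinset, f χ =
      ∑ χ ∈ F.rest, f χ + ∑ u : Orb P, f (F.η u) := by
  rw [← Finset.sum_image (g := F.η) fun a _ b _ e => F.inj e, ← Finset.sum_union]
  · refine Finset.sum_congr (Finset.ext fun χ => ?_) fun _ _ => rfl
    simp only [Set.mem_toFinset, Finset.mem_union, mem_rest, Finset.mem_image, Finset.mem_univ,
      true_and, Set.mem_range]
    refine ⟨fun hχ => ?_, ?_⟩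
    · by_cases hc : ∃ u, F.η u = χ
      exacts [Or.inr hc, Or.inl ⟨hχ, hc⟩]
    · rintro (hχ | ⟨u, rfl⟩)
      exacts [hχ.1, F.mem u]
  · refine Finset.disjoint_left.2 fun χ hχ hχ' => (F.mem_rest.1 hχ).2 ?_
    obtain ⟨u, -, rfl⟩ := Finset.mem_image.1 hχ'
    exact ⟨u, rfl⟩

theorem eq_union [Fintype (Orb P)] :
    Cfsg.principalBlock M G = (F.rest : Set (IrrCharacter G)) ∪ Set.range F.η := by
  refine Set.ext fun χ => ⟨fun hχ => ?_, ?_⟩
  · by_cases hc : χ ∈ Set.range F.η
    exacts [Or.inr hc, Or.inl (F.mem_rest.2 ⟨hχ, hc⟩)]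
  · rintro (hχ | ⟨u, rfl⟩)
    exacts [(F.mem_rest.1 hχ).1, F.mem u]

theorem disjoint_rest [Fintype (Orb P)] :
    Disjoint (F.rest : Set (IrrCharacter G)) (Set.range F.η) :=
  Set.disjoint_left.2 fun _ hχ => (F.mem_rest.1 hχ).2

/-- The constant value of the vector outside the family. -/
noncomputable def aval [Nonempty (Orb P)] (_F : Frame M P) (χ : IrrCharacter G) : ℤ :=
  oc χ (Classical.arbitrary (Orb P))

theorem oc_eq_aval [Fintype (Orb P)] [Nonempty (Orb P)] {χ : IrrCharacter G} (hχ : χ ∈ F.rest)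
    (o : Orb P) : oc χ o = F.aval χ :=
  F.oc_rest χ (F.mem_rest.1 hχ).1 (F.mem_rest.1 hχ).2 _ _

theorem aval_ne_zero [Fintype (Orb P)] [Nonempty (Orb P)] (h : Semireg P)
    (hM : Cfsg.IsPModular p M) (hP : Nat.card (P : Subgroup G) ≠ 1) {χ : IrrCharacter G}
    (hχ : χ ∈ F.rest) : F.aval χ ≠ 0 := by
  obtain ⟨o, ho⟩ := exists_coeff_ne_zero h hM hP (F.mem_rest.1 hχ).1
  exact F.oc_eq_aval hχ o ▸ ho

theorem trivChar_mem_rest [Fintype (Orb P)] [Nontrivial (Orb P)] : trivChar G ∈ F.rest := by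
  refine F.mem_rest.2 ⟨trivChar_mem, ?_⟩
  rintro ⟨u, hu⟩
  obtain ⟨o, ho⟩ := exists_ne u
  have h1 := F.oc_eta u u
  have h2 := F.oc_eta o u
  rw [hu, oc_trivChar] at h1 h2
  rw [if_pos rfl] at h1
  rw [if_neg ho] at h2
  rcases F.sign with e | e <;> rw [e] at h1 h2 <;> omega

theorem aval_trivChar [Fintype (Orb P)] [Nonempty (Orb P)] :
    F.aval (trivChar G) = 1 :=
  oc_trivChar _

theorem norm_eq [Fintype (Orb P)] [Nonempty (Orb P)] (h : Semireg P)
    (hM : Cfsg.IsPModular p M) :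
    (F.d - F.δ) ^ 2 + ((Fintype.card (Orb P) : ℤ) - 1) * F.d ^ 2 + ∑ χ ∈ F.rest, F.aval χ ^ 2 =
      (Nat.card (aut P) : ℤ) + 1 := by
  classical
  have h1 := gram_oc h hM (Classical.arbitrary (Orb P)) (Classical.arbitrary (Orb P)) (M := M)
  rw [F.sum_block, if_pos rfl, Finset.sum_congr rfl (g := fun χ => F.aval χ ^ 2) fun χ hχ => by
      rw [F.oc_eq_aval hχ, sq],
    Finset.sum_congr rfl (g := fun u => F.d ^ 2 +
      (if Classical.arbitrary (Orb P) = u then F.δ ^ 2 - 2 * F.d * F.δ else 0)) fun u _ => by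
      rw [F.oc_eta]; split_ifs <;> ring,
    Finset.sum_add_distrib] at h1
  rw [← h1]
  simp only [Finset.sum_const, Finset.card_univ, nsmul_eq_mul, Finset.sum_ite_eq,
    Finset.mem_univ, if_true]
  ring

theorem card_rest_le [Fintype (Orb P)] [Nontrivial (Orb P)] (h : Semireg P)
    (hM : Cfsg.IsPModular p M) (hP : Nat.card (P : Subgroup G) ≠ 1) :
    F.rest.card ≤ Nat.card (aut P) := by
  have h1 := F.norm_eq h hM
  have h2 : (F.rest.card : ℤ) ≤ ∑ χ ∈ F.rest, F.aval χ ^ 2 := by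
    rw [Finset.card_eq_sum_ones, Nat.cast_sum]
    refine Finset.sum_le_sum fun χ hχ => ?_
    have := F.aval_ne_zero h hM hP hχ
    rw [Nat.cast_one]
    exact Int.add_one_le_iff.2 (sq_pos_iff.2 this)
  have h3 : (2 : ℤ) ≤ Fintype.card (Orb P) := by
    exact_mod_cast Fintype.one_lt_card (α := Orb P)
  have h4 : (F.rest.card : ℤ) ≤ Nat.card (aut P) := by
    by_cases hd : F.d = 0
    · rw [hd] at h1
      rcases F.sign with e | e <;> rw [e] at h1 <;> linarith
    · have : 1 ≤ ((Fintype.card (Orb P) : ℤ) - 1) * F.d ^ 2 :=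
        one_le_mul_of_one_le_of_one_le (by linarith) (Int.add_one_le_iff.2 (sq_pos_iff.2 hd))
      linarith [sq_nonneg (F.d - F.δ)]
  exact_mod_cast h4

theorem eta_apply [Fintype (Orb P)] (h : Semireg P) (hM : Cfsg.IsPModular p M) (u : Orb P) {z : G}
    {y : (P : Subgroup G)} (hz : Cfsg.IsPPart p z (y : G)) (hy : (y : G) ≠ 1) :
    (F.η u : G → ℂ) z = (F.d : ℂ) + (F.δ : ℂ) * orbSum u y := by
  classical
  have hy' : y ≠ 1 := fun e => hy (by rw [e]; rfl)
  rw [h.apply_of_isPPart hM (F.mem u) hz y.2 hy, apply_eq_neg_oc h _ hy',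
    Finset.sum_congr rfl (g := fun o => (F.d : ℂ) * orbSum o y -
      if o = u then (F.δ : ℂ) * orbSum o y else 0) fun o _ => by
      rw [F.oc_eta]; split_ifs <;> push_cast <;> ring,
    Finset.sum_sub_distrib, ← Finset.mul_sum, sum_orbSum h hy']
  simp only [Finset.sum_ite_eq', Finset.mem_univ, if_true]
  ring

theorem rest_apply [Fintype (Orb P)] [Nonempty (Orb P)] (h : Semireg P)
    (hM : Cfsg.IsPModular p M) {χ : IrrCharacter G} (hχ : χ ∈ F.rest) {z y : G}
    (hz : Cfsg.IsPPart p z y) (hyP : y ∈ (P : Subgroup G)) (hy : y ≠ 1) :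
    (χ : G → ℂ) z = (F.aval χ : ℂ) := by
  classical
  have hy' : (⟨y, hyP⟩ : (P : Subgroup G)) ≠ 1 := fun e => hy (congrArg Subtype.val e)
  rw [h.apply_of_isPPart hM (F.mem_rest.1 hχ).1 hz hyP hy,
    show (χ : G → ℂ) y = (χ : G → ℂ) ((⟨y, hyP⟩ : (P : Subgroup G)) : G) from rfl,
    apply_eq_neg_oc h _ hy',
    Finset.sum_congr rfl (g := fun o => (F.aval χ : ℂ) * orbSum o ⟨y, hyP⟩) fun o _ => by
      rw [F.oc_eq_aval hχ],
    ← Finset.mul_sum, sum_orbSum h hy']
  ring

theorem eta_eq [Fintype (Orb P)] (hM : Cfsg.IsPModular p M) (u v : Orb P) {g : G}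
    (hg : ¬ p ∣ orderOf g) : (F.η u : G → ℂ) g = (F.η v : G → ℂ) g := by
  classical
  have h1 := sum_oc_mul_eq_zero hM u hg (M := M)
  have h2 := sum_oc_mul_eq_zero hM v hg (M := M)
  rw [F.sum_block] at h1 h2
  have e : ∀ o : Orb P, ∑ w : Orb P, ((oc (F.η w) o : ℤ) : ℂ) * (F.η w : G → ℂ) g =
      (F.d : ℂ) * ∑ w : Orb P, (F.η w : G → ℂ) g - (F.δ : ℂ) * (F.η o : G → ℂ) g := by
    intro o
    rw [Finset.sum_congr rfl (g := fun w => (F.d : ℂ) * (F.η w : G → ℂ) g -
      if o = w then (F.δ : ℂ) * (F.η w : G → ℂ) g else 0) fun w _ => by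
      rw [F.oc_eta]; split_ifs <;> push_cast <;> ring, Finset.sum_sub_distrib, ← Finset.mul_sum]
    simp
  have e' : ∑ χ ∈ F.rest, (oc χ u : ℂ) * (χ : G → ℂ) g =
      ∑ χ ∈ F.rest, (oc χ v : ℂ) * (χ : G → ℂ) g :=
    Finset.sum_congr rfl fun χ hχ => by
      rw [F.oc_rest χ (F.mem_rest.1 hχ).1 (F.mem_rest.1 hχ).2 u v]
  rw [e, e'] at h1
  rw [e] at h2
  have : (F.δ : ℂ) * (F.η u : G → ℂ) g = (F.δ : ℂ) * (F.η v : G → ℂ) g := by
    linear_combination h2 - h1
  refine mul_left_cancel₀ ?_ this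
  rcases F.sign with e | e <;> simp [e]

theorem regular_identity [Fintype (Orb P)] [Nonempty (Orb P)] (hM : Cfsg.IsPModular p M)
    (u : Orb P) {g : G} (hg : ¬ p ∣ orderOf g) :
    ((Fintype.card (Orb P) : ℂ) * F.d - F.δ) * (F.η u : G → ℂ) g +
      ∑ χ ∈ F.rest, (F.aval χ : ℂ) * (χ : G → ℂ) g = 0 := by
  classical
  have h1 := sum_oc_mul_eq_zero hM u hg (M := M)
  rw [F.sum_block, Finset.sum_congr rfl (g := fun χ => (F.aval χ : ℂ) * (χ : G → ℂ) g)
      fun χ hχ => by rw [F.oc_eq_aval hχ],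
    Finset.sum_congr rfl (g := fun w => (F.d : ℂ) * (F.η u : G → ℂ) g -
      if u = w then (F.δ : ℂ) * (F.η u : G → ℂ) g else 0) fun w _ => by
      rw [F.oc_eta, F.eta_eq hM w u hg]; split_ifs <;> push_cast <;> ring] at h1
  simp only [Finset.sum_sub_distrib, Finset.sum_const, Finset.card_univ, nsmul_eq_mul,
    Finset.sum_ite_eq, Finset.mem_univ, if_true] at h1
  linear_combination h1

theorem degree_rest [Fintype (Orb P)] [Nonempty (Orb P)] (h : Semireg P) {χ : IrrCharacter G}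
    (hχ : χ ∈ F.rest) :
    (Cfsg.charDegree (χ : G → ℂ) : ℤ) ≡ F.aval χ [ZMOD (Nat.card (P : Subgroup G) : ℤ)] := by
  have hr : (Fintype.card (Orb P) : ℤ) * Nat.card (aut P) + 1 = Nat.card (P : Subgroup G) := by
    rw [← card_orb_mul h, Nat.card_eq_fintype_card (α := Orb P)]
    push_cast; ring
  rw [charDegree_eq h, Finset.sum_congr rfl (g := fun _ => F.aval χ) fun o _ =>
    F.oc_eq_aval hχ o, Finset.sum_const, Finset.card_univ, nsmul_eq_mul, ← hr]
  exact Int.modEq_iff_dvd.2 ⟨F.aval χ - (mult χ (1 : (P : Subgroup G) →* ℂˣ) : ℤ), by ring⟩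

theorem degree_eta [Fintype (Orb P)] (h : Semireg P) (u : Orb P) :
    (Cfsg.charDegree (F.η u : G → ℂ) : ℤ) ≡ F.d + F.δ * Nat.card (aut P)
      [ZMOD (Nat.card (P : Subgroup G) : ℤ)] := by
  have hr : (Fintype.card (Orb P) : ℤ) * Nat.card (aut P) + 1 = Nat.card (P : Subgroup G) := by
    rw [← card_orb_mul h, Nat.card_eq_fintype_card (α := Orb P)]
    push_cast; ring
  rw [charDegree_eq h, Finset.sum_congr rfl (g := fun o => F.d - if o = u then F.δ else 0)
    fun o _ => by rw [F.oc_eta]; split_ifs <;> ring]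
  simp only [Finset.sum_sub_distrib, Finset.sum_const, Finset.card_univ, nsmul_eq_mul,
    Finset.sum_ite_eq', Finset.mem_univ, if_true]
  rw [← hr]
  exact Int.modEq_iff_dvd.2 ⟨F.d - (mult (F.η u) (1 : (P : Subgroup G) →* ℂˣ) : ℤ), by ring⟩

theorem card_range [Fintype (Orb P)] (h : Semireg P) :
    Nat.card (Set.range F.η) = (Nat.card (P : Subgroup G) - 1) / Nat.card (aut P) := by
  rw [Nat.card_range_of_injective F.inj, ← card_orb_mul h, Nat.add_sub_cancel,
    Nat.mul_div_cancel _ Nat.card_pos]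

/-- With two orbits and `d = δ`, exchanging the two exceptional characters makes `d` vanish. -/
noncomputable def swap (a b : Orb P) (hab : a ≠ b) (htwo : ∀ o, o = a ∨ o = b)
    (hd : F.d = F.δ) : Frame M P where
  η := fun o => F.η (Equiv.swap a b o)
  inj := F.inj.comp (Equiv.swap a b).injective
  mem := fun o => F.mem _
  d := 0
  δ := -F.δ
  sign := by rcases F.sign with e | e <;> simp [e]
  oc_eta := fun o u => by
    rw [F.oc_eta, hd]
    rcases htwo o with rfl | rfl <;> rcases htwo u with rfl | rfl <;>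
      simp [hab, hab.symm]
  oc_rest := fun χ hχ hr => F.oc_rest χ hχ fun ⟨u, hu⟩ =>
    hr ⟨Equiv.swap a b u, by simpa using hu⟩

theorem range_swap (a b : Orb P) (hab : a ≠ b) (htwo : ∀ o, o = a ∨ o = b) (hd : F.d = F.δ) :
    Set.range (F.swap a b hab htwo hd).η = Set.range F.η :=
  (Equiv.swap a b).surjective.range_comp F.η

end Frame

end CfsgLib.BlocksFrobenius
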