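import Cfsg.Agent.BlocksFrobenius.InvolutionPairs

/-!
# Inertial index three

The family has `d = 0`; with an involution outside every proper normal subgroup the signs and a
square among the products of degrees follow.
-/

set_option autoImplicit false
set_option linter.style.haveILetI false
set_option linter.unusedSectionVars false

namespace CfsgLib.BlocksFrobenius

open Cfsg CfsgLib.Blocks CfsgLib.PrincipalBlock
open scoped ComplexConjugate

/-- With one negative entry the two relations force equality. -/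
theorem eq_of_one_negative {A B C U V W : ℤ} (hA : 0 < A) (hB : 0 < B)
    (h1 : A + B + C = -1) (h2 : U + V + W = -1)
    (h3 : U ^ 2 * (B * C) + V ^ 2 * (A * C) + W ^ 2 * (A * B) + A * B * C = 0) :
    U = A ∧ V = B ∧ W = C := by
  obtain rfl : C = -1 - A - B := by linarith
  obtain rfl : W = -1 - U - V := by linarith
  have h : (B * (U - A) - A * (V - B)) ^ 2 + B * (U - A) ^ 2 + A * (V - B) ^ 2 = 0 := by
    linear_combination -h3
  have hx : (U - A) ^ 2 = 0 := by
    nlinarith [sq_nonneg (B * (U - A) - A * (V - B)), sq_nonneg (U - A), sq_nonneg (V - B)]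
  have hy : (V - B) ^ 2 = 0 := by
    nlinarith [sq_nonneg (B * (U - A) - A * (V - B)), sq_nonneg (U - A), sq_nonneg (V - B)]
  have := pow_eq_zero_iff two_ne_zero |>.1 hx
  have := pow_eq_zero_iff two_ne_zero |>.1 hy
  omega

/-- Off the equality case the product of the three entries is a square. -/
theorem isSquare_of_relations {A B C U V W : ℤ} (h1 : A + B + C = -1) (h2 : U + V + W = -1)
    (h3 : U ^ 2 * (B * C) + V ^ 2 * (A * C) + W ^ 2 * (A * B) + A * B * C = 0) (hne : V ≠ B) :
    IsSquare (A * B * C) := by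
  obtain rfl : C = -1 - A - B := by linarith
  obtain rfl : W = -1 - U - V := by linarith
  have hS : (V - B) ^ 2 * (A * B * (-1 - A - B)) =
      (B * (A + (-1 - A - B)) * (U - A) + A * B * (V - B)) ^ 2 := by
    linear_combination -(B * (A + (-1 - A - B))) * h3
  obtain ⟨k, hk⟩ : (V - B) ∣ B * (A + (-1 - A - B)) * (U - A) + A * B * (V - B) :=
    (Int.pow_dvd_pow_iff two_ne_zero).1 ⟨_, hS.symm⟩
  refine ⟨k, mul_left_cancel₀ (pow_ne_zero 2 (sub_ne_zero.2 hne)) ?_⟩
  rw [hS, hk]; ring

universe u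

variable {G : Type u} [Group G] [Fintype G] {p : ℕ} [Fact p.Prime] {P : Sylow p G}

/-- Orbit columns at elements that are not in one orbit. -/
theorem sum_conj_mul_orbSum (h : Semireg P) [Fintype (Orb P)] {y z : (P : Subgroup G)}
    (hyz : ∀ f : aut P, f.1 z ≠ y) :
    ∑ o : Orb P, conj (orbSum o y) * orbSum o z = -(Nat.card (aut P) : ℂ) := by
  haveI := Fintype.ofFinite (aut P)
  have hkey : ∀ o : Orb P, conj (orbSum o y) * orbSum o z =
      ∑ g : aut P, orbSum o (y⁻¹ * g.1 z) := by
    intro o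
    simp only [orbSum_eq, map_sum, Finset.sum_mul_sum]
    rw [Finset.sum_comm (γ := aut P) (t := Finset.univ)]
    conv_rhs => rw [Finset.sum_comm]
    rw [Finset.sum_comm]
    refine Finset.sum_congr rfl fun f _ => ?_
    refine (Fintype.sum_equiv (Equiv.mulLeft f) _ _ fun g => ?_).symm
    show (rep o (f.1 (y⁻¹ * g.1 z)) : ℂ) =
      conj (rep o (f.1 y) : ℂ) * (rep o ((f * g : aut P).1 z) : ℂ)
    rw [conj_apply, ← Units.val_mul, Subgroup.coe_mul, MulAut.mul_apply, MonoidHom.inv_apply,
      ← map_inv, ← map_mul, map_mul f.1, map_inv f.1]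
  simp only [hkey]
  rw [Finset.sum_comm, Finset.sum_congr rfl (g := fun _ => (-1 : ℂ)) fun g _ =>
    sum_orbSum h fun e => hyz g (inv_mul_eq_one.1 e).symm]
  simp [Nat.card_eq_fintype_card]

theorem orbSum_sq [Fintype (aut P)] (o : Orb P) (t : (P : Subgroup G)) :
    orbSum o t * orbSum o t = ∑ g : aut P, orbSum o (t * g.1 t) := by
  simp only [orbSum_eq, Finset.sum_mul_sum]
  conv_rhs => rw [Finset.sum_comm]
  refine Finset.sum_congr rfl fun f _ => ?_
  refine (Fintype.sum_equiv (Equiv.mulLeft f) _ _ fun g => ?_).symm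
  rw [Equiv.coe_mulLeft, map_mul, map_mul, Units.val_mul, Subgroup.coe_mul, MulAut.mul_apply]

variable {M : Ideal AlgInt} [M.IsPrime] [DecidableEq (Orb P)]

theorem exists_frame_three (h : Semireg P) (hM : Cfsg.IsPModular p M)
    (hm : Nat.card (aut P) = 3) (hP : 4 < Nat.card (P : Subgroup G)) [Fintype (Orb P)]
    [Nonempty (Orb P)] :
    ∃ F : Frame M P, F.d = 0 ∧ F.rest.card = 3 ∧ trivChar G ∈ F.rest ∧
      ∀ χ ∈ F.rest, F.aval χ = 1 ∨ F.aval χ = -1 := by
  classical
  have hP1 : Nat.card (P : Subgroup G) ≠ 1 := by omega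
  have hcard := card_orb_mul h
  rw [Nat.card_eq_fintype_card (α := Orb P), hm] at hcard
  have h2 : 2 ≤ Fintype.card (Orb P) := by omega
  haveI : Nontrivial (Orb P) := Fintype.one_lt_card_iff_nontrivial.1 h2
  suffices ∃ F : Frame M P, F.d = 0 by
    obtain ⟨F, hd⟩ := this
    have h1 := F.norm_eq h hM
    rw [hm, hd] at h1
    have h3 : ∑ χ ∈ F.rest, F.aval χ ^ 2 = 3 := by
      rcases F.sign with e | e <;> rw [e] at h1 <;> push_cast at h1 ⊢ <;> linarith
    have hone : ∀ χ ∈ F.rest, F.aval χ ^ 2 = 1 := fun χ hχ => by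
      have h4 : F.aval χ ^ 2 ≤ 3 := h3 ▸ Finset.single_le_sum (f := fun χ => F.aval χ ^ 2)
        (fun _ _ => sq_nonneg _) hχ
      have := F.aval_ne_zero h hM hP1 hχ
      have : -2 < F.aval χ ∧ F.aval χ < 2 := by constructor <;> nlinarith
      rcases (by omega : F.aval χ = -1 ∨ F.aval χ = 1) with e | e <;> rw [e] <;> norm_num
    refine ⟨F, hd, ?_, F.trivChar_mem_rest, fun χ hχ => sq_eq_one_iff.1 (hone χ hχ)⟩
    rw [Finset.sum_congr rfl hone, Finset.sum_const, nsmul_one] at h3
    exact_mod_cast h3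
  obtain ⟨F⟩ := exists_frame h hM h2 (M := M)
  by_cases hd : F.d = 0
  · exact ⟨F, hd⟩
  have h1 := F.norm_eq h hM
  rw [hm] at h1
  have hsum : 1 ≤ ∑ χ ∈ F.rest, F.aval χ ^ 2 := by
    refine le_trans ?_ (Finset.single_le_sum (f := fun χ => F.aval χ ^ 2)
      (fun _ _ => sq_nonneg _) F.trivChar_mem_rest)
    simp [F.aval_trivChar]
  have h5 : (1 : ℤ) ≤ F.d ^ 2 := Int.add_one_le_iff.2 (sq_pos_iff.2 hd)
  have h6 : (2 : ℤ) ≤ Fintype.card (Orb P) := by exact_mod_cast h2
  push_cast at h1
  have hd2 : F.d = F.δ := by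
    have hb : -2 < F.d ∧ F.d < 2 := by
      rcases F.sign with e | e <;> rw [e] at h1 <;> constructor <;>
        nlinarith [mul_nonneg (sub_nonneg.2 h6) (sq_nonneg F.d)]
    rcases F.sign with e | e <;> rcases (by omega : F.d = 1 ∨ F.d = -1) with e' | e' <;>
      rw [e, e'] at h1 ⊢ <;> norm_num at h1 ⊢ <;> nlinarith
  rw [hd2, sub_self] at h1
  have hle : Fintype.card (Orb P) ≤ 4 := by
    rcases F.sign with e | e <;> rw [e] at h1 <;> norm_num at h1 <;> omega
  rcases (by omega : Fintype.card (Orb P) = 2 ∨ Fintype.card (Orb P) = 3 ∨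
    Fintype.card (Orb P) = 4) with hr | hr | hr
  · obtain ⟨a, b, hab, hu⟩ := Finset.card_eq_two.1 (Finset.card_univ.trans hr)
    exact ⟨F.swap a b hab (fun o => by
      have := hu ▸ Finset.mem_univ o
      simpa using this) hd2, rfl⟩
  · exfalso
    obtain ⟨n, hn⟩ := P.2.exists_card_eq
    rw [← hcard, hr] at hn
    have hn0 : n ≠ 0 := fun e => by rw [e] at hn; norm_num at hn
    have hp : p ∣ 10 := ⟨p ^ (n - 1), by
      rw [← pow_succ', Nat.sub_add_cancel (Nat.one_le_iff_ne_zero.2 hn0)]; exact hn⟩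
    have hp2 := (Fact.out : p.Prime)
    have h10 : 5 ∣ p ^ n ∧ 2 ∣ p ^ n := by rw [← hn]; constructor <;> norm_num
    have e5 := (Nat.prime_dvd_prime_iff_eq (by norm_num) hp2).1
      (Nat.Prime.dvd_of_dvd_pow (by norm_num) h10.1)
    have e2 := (Nat.prime_dvd_prime_iff_eq Nat.prime_two hp2).1
      (Nat.prime_two.dvd_of_dvd_pow h10.2)
    omega
  · exfalso
    rw [hr] at h1
    have hs : ∑ χ ∈ F.rest, F.aval χ ^ 2 = 1 := by
      rcases F.sign with e | e <;> rw [e] at h1 <;> norm_num at h1 ⊢ <;> linarith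
    have hrest : F.rest = {trivChar G} := by
      refine Finset.eq_singleton_iff_unique_mem.2 ⟨F.trivChar_mem_rest, fun χ hχ => ?_⟩
      by_contra hne
      have := Finset.sum_le_sum_of_subset_of_nonneg (f := fun χ => F.aval χ ^ 2)
        (Finset.insert_subset hχ (Finset.singleton_subset_iff.2 F.trivChar_mem_rest))
        fun _ _ _ => sq_nonneg _
      rw [Finset.sum_pair hne, hs, F.aval_trivChar] at this
      have := sq_pos_iff.2 (F.aval_ne_zero h hM hP1 hχ)
      linarith
    obtain ⟨u⟩ : Nonempty (Orb P) := inferInstance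
    have hreg := F.regular_identity hM u (g := 1)
      (by rw [orderOf_one]; exact (Fact.out : p.Prime).not_dvd_one)
    rw [hr, hd2, hrest, Finset.sum_singleton, F.aval_trivChar, ← charDegree_cast] at hreg
    have : (3 * F.δ) * (Cfsg.charDegree (F.η u : G → ℂ) : ℤ) + 1 = 0 := by
      refine Int.cast_injective (α := ℂ) ?_
      push_cast at hreg ⊢
      simp only [trivChar_apply] at hreg
      linear_combination hreg
    rcases F.sign with e | e <;> rw [e] at this <;> omega

/-- No element of the principal block family other than the principal character is trivial on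
an involution generating `G` normally. -/
theorem ne_degree (t : G) (hgen : ∀ K : Subgroup G, K.Normal → t ∈ K → K = ⊤)
    {χ : IrrCharacter G} (hχ : χ ≠ trivChar G) : (χ : G → ℂ) t ≠ (χ : G → ℂ) 1 := fun e =>
  hχ (eq_trivChar_of_charKer_eq_top (hgen (charKer χ) inferInstance (mem_charKer.2 e)))

/-- The involution part. -/
theorem involution_signs (h : Semireg P) (hM : Cfsg.IsPModular p M)
    (hm : Nat.card (aut P) = 3) (hP : 4 < Nat.card (P : Subgroup G)) [Fintype (Orb P)]
    [Nonempty (Orb P)] (F : Frame M P) (hd : F.d = 0) {χ χ' : IrrCharacter G}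
    (hne : χ ≠ χ') (h1χ : χ ≠ trivChar G) (h1χ' : χ' ≠ trivChar G)
    (hrest : F.rest = {trivChar G, χ, χ'})
    (hχs : F.aval χ = 1 ∨ F.aval χ = -1) (hχs' : F.aval χ' = 1 ∨ F.aval χ' = -1)
    {t : G} (ht : orderOf t = 2) (hgen : ∀ K : Subgroup G, K.Normal → t ∈ K → K = ⊤) :
    ((if F.aval χ = -1 then 1 else 0) + (if F.aval χ' = -1 then 1 else 0) +
      (if F.δ = 1 then 1 else 0) = (2 : ℕ)) ∧
      ∀ u : Orb P, IsSquare (Cfsg.charDegree (F.η u : G → ℂ) *
        (Cfsg.charDegree (χ : G → ℂ) * Cfsg.charDegree (χ' : G → ℂ))) := by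
  classical
  haveI := Fintype.ofFinite (aut P)
  haveI := h.comm
  have htt : t * t = 1 := by rw [← sq, ← ht, pow_orderOf_eq_one]
  have hodd : Odd (Nat.card (aut P)) := by rw [hm]; decide
  have hp1 : ¬ p ∣ orderOf (1 : G) := by
    rw [orderOf_one]; exact (Fact.out : p.Prime).not_dvd_one
  have hmem : χ ∈ F.rest ∧ χ' ∈ F.rest := by simp [hrest]
  obtain ⟨o₀⟩ : Nonempty (Orb P) := inferInstance
  set α : ℕ := Cfsg.charDegree (χ : G → ℂ) with hαdef
  set β : ℕ := Cfsg.charDegree (χ' : G → ℂ) with hβdef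
  set γ : ℕ := Cfsg.charDegree (F.η o₀ : G → ℂ) with hγdef
  have hγ : ∀ u, Cfsg.charDegree (F.η u : G → ℂ) = γ := fun u => by
    refine Nat.cast_injective (R := ℂ) ?_
    rw [hγdef, charDegree_cast, charDegree_cast, F.eta_eq hM u o₀ hp1]
  have hα0 : (α : ℂ) ≠ 0 := Nat.cast_ne_zero.2 (charDegree_ne_zero χ)
  have hβ0 : (β : ℂ) ≠ 0 := Nat.cast_ne_zero.2 (charDegree_ne_zero χ')
  have hγ0 : (γ : ℂ) ≠ 0 := Nat.cast_ne_zero.2 (charDegree_ne_zero _)
  have htriv : trivChar G ∉ ({χ, χ'} : Finset (IrrCharacter G)) := by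
    simp [Ne.symm h1χ, Ne.symm h1χ']
  have hsumrest : ∀ f : IrrCharacter G → ℂ,
      ∑ φ ∈ F.rest, f φ = f (trivChar G) + (f χ + f χ') := fun f => by
    rw [hrest, Finset.sum_insert htriv, Finset.sum_pair hne]
  have hid : ∀ g : G, ¬ p ∣ orderOf g →
      1 + (F.aval χ : ℂ) * (χ : G → ℂ) g + (F.aval χ' : ℂ) * (χ' : G → ℂ) g -
        (F.δ : ℂ) * (F.η o₀ : G → ℂ) g = 0 := fun g hg => by
    have := F.regular_identity hM o₀ hg
    rw [hd, hsumrest, F.aval_trivChar, trivChar_apply] at this
    push_cast at this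
    linear_combination this
  have hdeg : 1 + F.aval χ * (α : ℤ) + F.aval χ' * (β : ℤ) - F.δ * (γ : ℤ) = 0 := by
    refine Int.cast_injective (α := ℂ) ?_
    have := hid 1 hp1
    rw [← charDegree_cast, ← charDegree_cast, ← charDegree_cast] at this
    push_cast
    exact this
  have hval : ∀ y : (P : Subgroup G), (y : G) ≠ 1 → ∀ φ ∈ F.rest,
      conj ((φ : G → ℂ) y) = (F.aval φ : ℂ) := fun y hy φ hφ => by
    have hz : Cfsg.IsPPart p (y : G) (y : G) := by
      simpa using isPPart_of_mul (p := p) (Commute.one_right (y : G)) (isPow_of_mem y.2) hp1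
    rw [F.rest_apply h hM hφ hz y.2 hy, map_intCast]
  have hetay : ∀ y : (P : Subgroup G), (y : G) ≠ 1 → ∀ u,
      (F.η u : G → ℂ) y = (F.δ : ℂ) * orbSum u y := fun y hy u => by
    have hz : Cfsg.IsPPart p (y : G) (y : G) := by
      simpa using isPPart_of_mul (p := p) (Commute.one_right (y : G)) (isPow_of_mem y.2) hp1
    rw [F.eta_apply h hM u hz hy, hd, Int.cast_zero, zero_add]
  rcases eq_or_ne p 2 with hp2 | hp2
  · -- even order: impossible
    exfalso
    subst hp2
    obtain ⟨n, hn⟩ := P.2.exists_card_eq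
    have hcard := card_orb_mul h
    rw [Nat.card_eq_fintype_card (α := Orb P), hm, hn] at hcard
    have hn4 : 4 ≤ n := by
      by_contra hlt
      rcases (by omega : n = 0 ∨ n = 1 ∨ n = 2 ∨ n = 3) with e | e | e | e <;>
        rw [e] at hn hcard <;> simp only [pow_zero, pow_one, Nat.reducePow] at hn hcard <;> omega
    have h16 : 16 ∣ Nat.card (P : Subgroup G) := by
      rw [hn]; exact Nat.pow_dvd_pow 2 hn4
    -- a conjugate in P
    obtain ⟨S, hS⟩ := (IsPGroup.of_card (p := 2) (n := 1)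
      (show Nat.card (Subgroup.zpowers t) = 2 ^ 1 by rw [Nat.card_zpowers, ht, pow_one])).exists_le_sylow
    obtain ⟨c, hc⟩ := MulAction.exists_smul_eq G S P
    have htP : c * t * c⁻¹ ∈ (P : Subgroup G) := by
      rw [← hc, Sylow.coe_subgroup_smul]
      exact Subgroup.smul_mem_pointwise_smul _ _ _ (hS (Subgroup.mem_zpowers t))
    set t₀ : (P : Subgroup G) := ⟨c * t * c⁻¹, htP⟩
    have hconj0 : IsConj t (t₀ : G) := isConj_iff.2 ⟨c, rfl⟩
    have hv : ∀ φ : IrrCharacter G, (φ : G → ℂ) t = (φ : G → ℂ) (t₀ : G) := fun φ =>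
      (Characters.isClassFunction_of_isIrr φ.2 t c).symm
    have ht01 : (t₀ : G) ≠ 1 := by
      show c * t * c⁻¹ ≠ 1
      rw [Ne, mul_inv_eq_one, mul_eq_left]
      rintro rfl
      simp at ht
    have hz0 : Cfsg.IsPPart 2 (t₀ : G) (t₀ : G) := by
      simpa using isPPart_of_mul (p := 2) (Commute.one_right (t₀ : G)) (isPow_of_mem t₀.2) hp1
    have ht0sq : t₀ * t₀ = 1 := Subtype.ext (by
      show c * t * c⁻¹ * (c * t * c⁻¹) = 1
      calc c * t * c⁻¹ * (c * t * c⁻¹) = c * (t * t) * c⁻¹ := by group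
        _ = 1 := by rw [htt, mul_one, mul_inv_cancel])
    set s : Finset (P : Subgroup G) :=
      (Finset.univ : Finset (aut P × aut P)).image fun q => q.1.1 t₀ * q.2.1 t₀
    obtain ⟨y, hy⟩ : ∃ y, y ∉ s := by
      by_contra! hall
      have h1 := Finset.card_le_card (fun y _ => hall y : (Finset.univ : Finset (P : Subgroup G)) ⊆ s)
      have h2 := h1.trans Finset.card_image_le
      rw [Finset.card_univ, Finset.card_univ, Fintype.card_prod, ← Nat.card_eq_fintype_card,
        ← Nat.card_eq_fintype_card, hm] at h2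
      have := Nat.le_of_dvd Nat.card_pos h16
      omega
    have hy' : ∀ f g : aut P, f.1 t₀ * g.1 t₀ ≠ y := fun f g e =>
      hy (Finset.mem_image.2 ⟨(f, g), Finset.mem_univ _, e⟩)
    have hy1 : (y : G) ≠ 1 := fun e => hy' 1 1 (by
      rw [show y = 1 from Subtype.ext e]
      exact ht0sq)
    have hzero := sum_sq_mul_conj_eq_zero h hM y hy1 (no_pairs h hodd htt y hy1
      (fun t₁ ht₁ f g _ e => by
        obtain ⟨k, hk, he⟩ := h.exists_aut (hconj0.symm.trans ht₁)
        exact hy' (f * ⟨k, hk⟩) (g * ⟨k, hk⟩) (by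
          show f.1 (k t₀) * g.1 (k t₀) = y
          rw [he]; exact e))
      fun _ => ⟨t₀, hconj0⟩) (M := M)
    rw [F.sum_block, hsumrest, trivChar_apply, trivChar_apply, trivChar_apply, map_one,
      hval y hy1 χ hmem.1, hval y hy1 χ' hmem.2, hv χ, hv χ',
      F.rest_apply h hM hmem.1 hz0 t₀.2 ht01, F.rest_apply h hM hmem.2 hz0 t₀.2 ht01,
      ← charDegree_cast, ← charDegree_cast, ← hαdef, ← hβdef] at hzero
    have hetas : ∑ u : Orb P, conj ((F.η u : G → ℂ) y) *
        ((F.η u : G → ℂ) t * (F.η u : G → ℂ) t / (F.η u : G → ℂ) 1) = -9 * (F.δ : ℂ) / (γ : ℂ) := by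
      have h9 : ∑ u : Orb P, conj (orbSum u y) * (orbSum u t₀ * orbSum u t₀) = -9 := by
        simp only [orbSum_sq, Finset.mul_sum]
        rw [Finset.sum_comm, Finset.sum_congr rfl (g := fun _ => -(3 : ℂ)) fun g _ => by
          rw [sum_conj_mul_orbSum h, hm]
          · norm_num
          · intro f e
            rw [map_mul, ← MulAut.mul_apply] at e
            exact hy' f (f * g) e]
        rw [Finset.sum_const, Finset.card_univ, ← Nat.card_eq_fintype_card, hm]
        norm_num
      have hδ3 : (F.δ : ℂ) * ((F.δ : ℂ) * (F.δ : ℂ)) = (F.δ : ℂ) := by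
        rcases F.sign with e | e <;> simp [e]
      rw [Finset.sum_congr rfl (g := fun u => conj (orbSum u y) * (orbSum u t₀ * orbSum u t₀) *
        ((F.δ : ℂ) / (γ : ℂ))) fun u _ => by
          rw [hv, hetay y hy1, hetay t₀ ht01, ← charDegree_cast (F.η u), hγ, map_mul, map_intCast]
          conv_rhs => rw [← hδ3]
          ring, ← Finset.sum_mul, h9]
      ring
    rw [hetas] at hzero
    -- A + B + C = -1 and 1 + 1/A + 1/B + 9/C = 0
    set A : ℤ := F.aval χ * α with hAdef
    set B : ℤ := F.aval χ' * β with hBdef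
    set C : ℤ := -(F.δ * γ) with hCdef
    have heq : A * B * C + B * C + A * C + 9 * (A * B) = 0 := by
      refine Int.cast_injective (α := ℂ) ?_
      simp only [hAdef, hBdef, hCdef]
      rcases hχs with ea | ea <;> rcases hχs' with eb | eb <;> rcases F.sign with ec | ec <;>
        simp only [ea, eb, ec] at hzero ⊢ <;> push_cast at hzero ⊢ <;> field_simp at hzero <;>
        first
          | linear_combination hzero
          | linear_combination -hzero
    have hmodA : (A - 1) % 16 = 0 := by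
      have := (F.degree_rest h hmem.1).of_dvd (Int.natCast_dvd_natCast.2 h16)
      rw [Int.modEq_iff_dvd] at this
      obtain ⟨k, hk⟩ := this
      rcases hχs with ea | ea <;> simp only [hAdef, ea] at hk ⊢ <;> omega
    have hmodB : (B - 1) % 16 = 0 := by
      have := (F.degree_rest h hmem.2).of_dvd (Int.natCast_dvd_natCast.2 h16)
      rw [Int.modEq_iff_dvd] at this
      obtain ⟨k, hk⟩ := this
      rcases hχs' with ea | ea <;> simp only [hBdef, ea] at hk ⊢ <;> omega
    have hmodC : (C + 3) % 16 = 0 := by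
      have := (F.degree_eta h o₀).of_dvd (Int.natCast_dvd_natCast.2 h16)
      rw [Int.modEq_iff_dvd, hd, hm] at this
      obtain ⟨k, hk⟩ := this
      push_cast at hk
      rcases F.sign with ea | ea <;> simp only [hCdef, ea] at hk ⊢ <;> omega
    have hne1 : ∀ φ : IrrCharacter G, φ ∈ F.rest → φ ≠ trivChar G →
        F.aval φ * (Cfsg.charDegree (φ : G → ℂ) : ℤ) ≠ 1 := by
      intro φ hφ hφ1 e
      refine ne_degree t hgen hφ1 ?_
      rw [hv, F.rest_apply h hM hφ hz0 t₀.2 ht01, ← charDegree_cast]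
      rcases Int.eq_one_or_neg_one_of_mul_eq_one e with e' | e' <;> rw [e'] at e ⊢
      · rw [one_mul] at e; exact_mod_cast e.symm
      · have : (0 : ℤ) ≤ Cfsg.charDegree (φ : G → ℂ) := Int.natCast_nonneg _
        omega
    have hA1 : A ≠ 1 := hne1 χ hmem.1 h1χ
    have hB1 : B ≠ 1 := hne1 χ' hmem.2 h1χ'
    have hA15 : A ≤ -15 ∨ 15 ≤ A := by omega
    have hB15 : B ≤ -15 ∨ 15 ≤ B := by omega
    have hq : (C : ℚ) * (1 + 1 / A + 1 / B) = -9 := by
      have hAq : (A : ℚ) ≠ 0 := Int.cast_ne_zero.2 (by omega)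
      have hBq : (B : ℚ) ≠ 0 := Int.cast_ne_zero.2 (by omega)
      have : ((A * B * C + B * C + A * C + 9 * (A * B) : ℤ) : ℚ) = 0 := by rw [heq]; simp
      push_cast at this
      field_simp
      linear_combination this
    have hbd : ∀ D : ℤ, D ≤ -15 ∨ 15 ≤ D → -(1 / 15 : ℚ) ≤ 1 / D ∧ (1 / D : ℚ) ≤ 1 / 15 := by
      intro D hD
      rcases hD with hD | hD
      · have hDq : (D : ℚ) ≤ -15 := by exact_mod_cast hD
        refine ⟨?_, le_trans (one_div_nonpos.2 (by linarith)) (by norm_num)⟩
        rw [le_div_iff_of_neg (by linarith)]; linarith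
      · have hDq : (15 : ℚ) ≤ D := by exact_mod_cast hD
        refine ⟨le_trans (by norm_num) (one_div_nonneg.2 (by linarith)), ?_⟩
        exact one_div_le_one_div_of_le (by norm_num) hDq
    obtain ⟨hA2, hA3⟩ := hbd A hA15
    obtain ⟨hB2, hB3⟩ := hbd B hB15
    have hC0 : (C : ℚ) < 0 := by nlinarith
    have hlo : (-11 : ℚ) < C := by nlinarith
    have hhi : (C : ℚ) < -7 := by nlinarith
    have hlo' : -11 < C := by exact_mod_cast hlo
    have hhi' : C < -7 := by exact_mod_cast hhi
    omega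
  · -- odd order
    have htreg : ¬ p ∣ orderOf t := by
      rw [ht]
      exact fun e => hp2 ((Nat.prime_dvd_prime_iff_eq Fact.out Nat.prime_two).1 e)
    haveI : Nontrivial (P : Subgroup G) := Finite.one_lt_card_iff_nontrivial.1 (by omega)
    obtain ⟨y, hy⟩ := exists_ne (1 : (P : Subgroup G))
    have hy1 : (y : G) ≠ 1 := fun e => hy (Subtype.ext e)
    have hyy : y * y ≠ 1 := by
      intro e
      refine hp2 ((Nat.prime_dvd_prime_iff_eq Fact.out Nat.prime_two).1
        ((dvd_orderOf_of_mem y.2 hy1).trans (orderOf_dvd_of_pow_eq_one ?_)))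
      rw [sq]; exact congrArg Subtype.val e
    have hzero := sum_sq_mul_conj_eq_zero h hM y hy1 (no_pairs h hodd htt y hy1
      (fun _ _ _ _ e => absurd e hyy) fun e => absurd e hyy) (M := M)
    obtain ⟨u, hu⟩ := exists_int_apply χ htt
    obtain ⟨v, hv⟩ := exists_int_apply χ' htt
    obtain ⟨w, hw⟩ := exists_int_apply (F.η o₀) htt
    have hetas : ∑ o : Orb P, conj ((F.η o : G → ℂ) y) *
        ((F.η o : G → ℂ) t * (F.η o : G → ℂ) t / (F.η o : G → ℂ) 1) =
          -((F.δ : ℂ) * ((w : ℂ) * w / (γ : ℂ))) := by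
      rw [Finset.sum_congr rfl (g := fun o => conj (orbSum o y) *
        ((F.δ : ℂ) * ((w : ℂ) * w / (γ : ℂ)))) fun o _ => by
          rw [hetay y hy1, F.eta_eq hM o o₀ htreg, hw, ← charDegree_cast (F.η o), hγ, map_mul,
            map_intCast]
          ring, ← Finset.sum_mul, ← map_sum, sum_orbSum h hy, map_neg, map_one]
      ring
    rw [F.sum_block, hsumrest, trivChar_apply, trivChar_apply, trivChar_apply, map_one,
      hval y hy1 χ hmem.1, hval y hy1 χ' hmem.2, hu, hv, ← charDegree_cast, ← charDegree_cast,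
      hetas, ← hαdef, ← hβdef] at hzero
    have hidt : 1 + F.aval χ * u + F.aval χ' * v - F.δ * w = 0 := by
      refine Int.cast_injective (α := ℂ) ?_
      have := hid t htreg
      rw [hu, hv, hw] at this
      push_cast
      exact this
    set A : ℤ := F.aval χ * α with hA
    set B : ℤ := F.aval χ' * β with hB
    set C : ℤ := -(F.δ * γ) with hC
    have h3 : (F.aval χ * u) ^ 2 * (B * C) + (F.aval χ' * v) ^ 2 * (A * C) +
        (-(F.δ * w)) ^ 2 * (A * B) + A * B * C = 0 := by
      refine Int.cast_injective (α := ℂ) ?_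
      simp only [hA, hB, hC]
      rcases hχs with ea | ea <;> rcases hχs' with eb | eb <;> rcases F.sign with ec | ec <;>
        simp only [ea, eb, ec] at hzero ⊢ <;> push_cast at hzero ⊢ <;> field_simp at hzero <;>
        first
          | linear_combination hzero
          | linear_combination -hzero
    have h1 : A + B + C = -1 := by simp only [hA, hB, hC]; linarith
    have h2 : F.aval χ * u + F.aval χ' * v + -(F.δ * w) = -1 := by linarith
    have hχA : F.aval χ * u ≠ A := by
      intro e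
      refine ne_degree t hgen h1χ ?_
      rw [hu, ← charDegree_cast]
      rcases hχs with ea | ea <;> rw [hA, ea] at e
      · exact_mod_cast (show u = (α : ℤ) by linarith)
      · exact_mod_cast (show u = (α : ℤ) by linarith)
    have hχB : F.aval χ' * v ≠ B := by
      intro e
      refine ne_degree t hgen h1χ' ?_
      rw [hv, ← charDegree_cast]
      rcases hχs' with ea | ea <;> rw [hB, ea] at e
      · exact_mod_cast (show v = (β : ℤ) by linarith)
      · exact_mod_cast (show v = (β : ℤ) by linarith)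
    have hαp : (1 : ℤ) ≤ α := by exact_mod_cast Nat.pos_of_ne_zero (charDegree_ne_zero χ)
    have hβp : (1 : ℤ) ≤ β := by exact_mod_cast Nat.pos_of_ne_zero (charDegree_ne_zero χ')
    have hγp : (1 : ℤ) ≤ γ := by exact_mod_cast Nat.pos_of_ne_zero (charDegree_ne_zero _)
    have hnot1 : ¬ (0 < A ∧ 0 < B) := fun hs => hχA (eq_of_one_negative hs.1 hs.2 h1 h2 h3).1
    have hnot2 : ¬ (0 < A ∧ 0 < C) := fun hs => hχA (eq_of_one_negative hs.1 hs.2
      (C := B) (by linarith) (V := -(F.δ * w)) (W := F.aval χ' * v) (by linarith)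
      (by linear_combination h3)).1
    have hnot3 : ¬ (0 < B ∧ 0 < C) := fun hs => hχB (eq_of_one_negative hs.1 hs.2
      (C := A) (by linarith) (V := -(F.δ * w)) (W := F.aval χ * u) (by linarith)
      (by linear_combination h3)).1
    refine ⟨?_, fun o => ?_⟩
    · rcases hχs with ea | ea <;> rcases hχs' with eb | eb <;> rcases F.sign with ec | ec <;>
        simp only [hA, hB, hC, ea, eb, ec] at h1 hnot1 hnot2 hnot3 ⊢ <;> norm_num at * <;>
        omega
    · have hprod : F.aval χ * F.aval χ' * -F.δ = 1 := by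
        rcases hχs with ea | ea <;> rcases hχs' with eb | eb <;> rcases F.sign with ec | ec <;>
          simp only [hA, hB, hC, ea, eb, ec] at h1 hnot1 hnot2 hnot3 ⊢ <;> norm_num at * <;>
          omega
      have hsq := isSquare_of_relations h1 h2 h3 hχB
      rw [show A * B * C = ((γ * (α * β) : ℕ) : ℤ) by
        simp only [hA, hB, hC]
        push_cast
        linear_combination ((α : ℤ) * β * γ) * hprod] at hsq
      rw [hγ o]
      exact Int.isSquare_natCast_iff.1 hsq

end CfsgLib.BlocksFrobenius
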