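import Cfsg.Agent.BlocksFrobenius.KleinShape
import Cfsg.Agent.Characters.FixedPoints

/-!
# Consequences of the order formula in terms of degrees and signs
-/

set_option autoImplicit false
set_option linter.unusedSectionVars false
set_option linter.style.haveILetI false

namespace CfsgLib.BlocksFrobenius.Klein

open Cfsg CfsgLib.Blocks CfsgLib.PrincipalBlock
open scoped ComplexConjugate

universe u

variable {G : Type u} [Group G] [Fintype G] {M : Ideal AlgInt} [M.IsPrime]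

/-- The data of the two statements. -/
structure FourData (M : Ideal AlgInt) (P : Sylow 2 G) (J : G) (χ₁ χ₂ χ₃ : IrrCharacter G)
    (ε₁ ε₂ ε₃ : ℤ) : Prop where
  isModular : Cfsg.IsPModular 2 M
  klein : IsKleinFour (P : Subgroup G)
  oneClass : ∀ s t : G, orderOf s = 2 → orderOf t = 2 → IsConj s t
  mem : J ∈ (P : Subgroup G)
  order : orderOf J = 2
  block : Cfsg.principalBlock M G = {χ : Cfsg.IrrCharacter G |
    (χ : G → ℂ) = (fun _ => 1) ∨ χ = χ₁ ∨ χ = χ₂ ∨ χ = χ₃}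
  distinct : (χ₁ : G → ℂ) ≠ (fun _ => 1) ∧ (χ₂ : G → ℂ) ≠ (fun _ => 1) ∧
    (χ₃ : G → ℂ) ≠ (fun _ => 1) ∧ χ₁ ≠ χ₂ ∧ χ₁ ≠ χ₃ ∧ χ₂ ≠ χ₃
  signs : (ε₁ = 1 ∨ ε₁ = -1) ∧ (ε₂ = 1 ∨ ε₂ = -1) ∧ (ε₃ = 1 ∨ ε₃ = -1)
  values : (χ₁ : G → ℂ) J = ε₁ ∧ (χ₂ : G → ℂ) J = ε₂ ∧ (χ₃ : G → ℂ) J = ε₃

variable {P : Sylow 2 G} {J : G} {χ₁ χ₂ χ₃ : IrrCharacter G} {ε₁ ε₂ ε₃ : ℤ}

open Classical in
theorem FourData.relation (D : FourData M P J χ₁ χ₂ χ₃ ε₁ ε₂ ε₃) :
    1 + ε₁ * (Cfsg.charDegree (χ₁ : G → ℂ) : ℤ) + ε₂ * (Cfsg.charDegree (χ₂ : G → ℂ) : ℤ) +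
      ε₃ * (Cfsg.charDegree (χ₃ : G → ℂ) : ℤ) = 0 := by
  haveI : Fact (Nat.Prime 2) := ⟨Nat.prime_two⟩
  have h := sum_union_mul_conj_eq_zero D.isModular
    (isBlockUnion_of_isPBlock (isPBlock_principalBlock (G := G) (M := M))) (x := 1) (y := J)
    (by rw [orderOf_one]; norm_num) (by rw [D.order])
  rw [sum_block_four D.block D.distinct (fun χ => (χ : G → ℂ) 1 * conj ((χ : G → ℂ) J))] at h
  simp only [trivChar_apply, map_one, mul_one, D.values.1, D.values.2.1, D.values.2.2,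
    map_intCast, ← charDegree_cast] at h
  apply Int.cast_injective (α := ℂ)
  push_cast
  linear_combination h

open Classical in
theorem FourData.order_eq (D : FourData M P J χ₁ χ₂ χ₃ ε₁ ε₂ ε₃) :
    let d₁ : ℚ := Cfsg.charDegree (χ₁ : G → ℂ)
    let d₂ : ℚ := Cfsg.charDegree (χ₂ : G → ℂ)
    let d₃ : ℚ := Cfsg.charDegree (χ₃ : G → ℂ)
    (Nat.card G : ℚ) * (Nat.card (Subgroup.centralizer ((P : Subgroup G) : Set G)) : ℚ) ^ 2 *
        ((d₁ + ε₁) * (d₂ + ε₂) * (d₃ + ε₃)) =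
      8 * (Nat.card (Subgroup.centralizer ({J} : Set G)) : ℚ) ^ 3 * (d₁ * d₂ * d₃) := by
  intro d₁ d₂ d₃
  have h := order_formula D.isModular P D.klein D.oneClass D.mem D.order
  rw [sum_block_four D.block D.distinct (fun χ => (χ : G → ℂ) J ^ 3 / (χ : G → ℂ) 1)] at h
  simp only [trivChar_apply, one_pow, div_one, D.values.1, D.values.2.1, D.values.2.2,
    ← charDegree_cast] at h
  have hcube : ∀ {ε : ℤ}, (ε = 1 ∨ ε = -1) → (ε : ℂ) ^ 3 = ε := by
    rintro ε (rfl | rfl) <;> norm_num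
  rw [hcube D.signs.1, hcube D.signs.2.1, hcube D.signs.2.2] at h
  have hr : (1 : ℚ) + ε₁ * d₁ + ε₂ * d₂ + ε₃ * d₃ = 0 := by
    have := congrArg (fun n : ℤ => (n : ℚ)) D.relation
    push_cast at this
    exact this
  have h0 : ∀ χ : IrrCharacter G, (Cfsg.charDegree (χ : G → ℂ) : ℚ) ≠ 0 := fun χ =>
    Nat.cast_ne_zero.2 (charDegree_ne_zero χ)
  have hq : (Nat.card G : ℚ) * (Nat.card (Subgroup.centralizer ((P : Subgroup G) : Set G)) : ℚ) ^ 2 *
      (1 + ε₁ / d₁ + ε₂ / d₂ + ε₃ / d₃) =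
      8 * (Nat.card (Subgroup.centralizer ({J} : Set G)) : ℚ) ^ 3 := by
    apply Rat.cast_injective (α := ℂ)
    simp only [d₁, d₂, d₃]
    push_cast
    linear_combination h
  have he : (ε₁ : ℚ) ^ 2 = 1 ∧ (ε₂ : ℚ) ^ 2 = 1 ∧ (ε₃ : ℚ) ^ 2 = 1 := by
    obtain ⟨a, b, c⟩ := D.signs
    refine ⟨?_, ?_, ?_⟩
    · rcases a with rfl | rfl <;> norm_num
    · rcases b with rfl | rfl <;> norm_num
    · rcases c with rfl | rfl <;> norm_num
  obtain ⟨e1, e2, e3⟩ := he
  have hd₁ : d₁ ≠ 0 := h0 χ₁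
  have hd₂ : d₂ ≠ 0 := h0 χ₂
  have hd₃ : d₃ ≠ 0 := h0 χ₃
  have key : (d₁ + ε₁) * (d₂ + ε₂) * (d₃ + ε₃) =
      (1 + ε₁ / d₁ + ε₂ / d₂ + ε₃ / d₃) * (d₁ * d₂ * d₃) := by
    field_simp
    linear_combination (ε₁ * ε₂ * ε₃ : ℚ) * hr - d₁ * ε₂ * ε₃ * e1 - d₂ * ε₁ * ε₃ * e2 -
      d₃ * ε₁ * ε₂ * e3
  rw [key, ← mul_assoc, hq]

open Classical in
theorem FourData.shape (D : FourData M P J χ₁ χ₂ χ₃ ε₁ ε₂ ε₃) (hprod : ε₁ * ε₂ * ε₃ = -1)
    (hε₃ : ε₃ = -1) :
    ε₁ = 1 ∧ ε₂ = 1 ∧ Cfsg.charDegree (χ₁ : G → ℂ) = Cfsg.charDegree (χ₂ : G → ℂ) ∧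
      Cfsg.charDegree (χ₃ : G → ℂ) = 2 * Cfsg.charDegree (χ₁ : G → ℂ) + 1 := by
  have hrel := D.relation
  have h1 : ε₁ = 1 ∧ ε₂ = 1 := by
    have p1 : (0 : ℤ) < Cfsg.charDegree (χ₁ : G → ℂ) :=
      Int.natCast_pos.2 (Nat.pos_of_ne_zero (charDegree_ne_zero χ₁))
    have p2 : (0 : ℤ) < Cfsg.charDegree (χ₂ : G → ℂ) :=
      Int.natCast_pos.2 (Nat.pos_of_ne_zero (charDegree_ne_zero χ₂))
    have p3 : (0 : ℤ) < Cfsg.charDegree (χ₃ : G → ℂ) :=
      Int.natCast_pos.2 (Nat.pos_of_ne_zero (charDegree_ne_zero χ₃))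
    obtain ⟨a, b, -⟩ := D.signs
    rcases a with rfl | rfl <;> rcases b with rfl | rfl <;> simp_all
    omega
  obtain ⟨rfl, rfl⟩ := h1
  subst hε₃
  have hd : Cfsg.charDegree (χ₁ : G → ℂ) = Cfsg.charDegree (χ₂ : G → ℂ) := by
    obtain ⟨n1, n2, n3, n12, n13, n23⟩ := D.distinct
    have hmem : ∀ χ : IrrCharacter G, χ = χ₁ ∨ χ = χ₂ ∨ χ = χ₃ → χ ∈ Cfsg.principalBlock M G :=
      fun χ h => by rw [D.block]; exact Or.inr h
    -- the conjugate of a nonreal one of the first two is the other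
    have hswap : ∀ χ ψ : IrrCharacter G, χ = χ₁ ∨ χ = χ₂ →
        (∀ g, (ψ : G → ℂ) g = conj ((χ : G → ℂ) g)) → (ψ = χ ∨ ψ = χ₁ ∨ ψ = χ₂) := by
      intro χ ψ hχ hψ
      have hψB := conj_mem_principalBlock hψ (hmem χ (hχ.elim Or.inl fun h => Or.inr (Or.inl h))
        : χ ∈ Cfsg.principalBlock M G)
      rw [D.block] at hψB
      rcases hψB with h | h | h | h
      · refine absurd (funext fun g => ?_) (hχ.elim (fun e => e.symm ▸ n1) (fun e => e.symm ▸ n2))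
        have h' := congrFun h g
        rw [hψ] at h'
        have := congrArg conj h'
        simpa using this
      · exact Or.inr (Or.inl h)
      · exact Or.inr (Or.inr h)
      · exfalso
        have h' := hψ J
        rw [h, D.values.2.2] at h'
        rcases hχ with rfl | rfl
        · rw [D.values.1, map_intCast, Int.cast_inj] at h'; omega
        · rw [D.values.2.1, map_intCast, Int.cast_inj] at h'; omega
    by_contra hne
    have hreal : ∀ χ : IrrCharacter G, χ = χ₁ ∨ χ = χ₂ ∨ χ = χ₃ →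
        ∀ g, conj ((χ : G → ℂ) g) = (χ : G → ℂ) g := by
      intro χ hχ g
      let ψ : IrrCharacter G := ⟨fun g => conj ((χ : G → ℂ) g), Characters.isIrr_conj χ.2⟩
      suffices ψ = χ from congrFun (congrArg Subtype.val this) g
      have hdeg : Cfsg.charDegree (ψ : G → ℂ) = Cfsg.charDegree (χ : G → ℂ) := by
        show Cfsg.charDegree (fun g => conj ((χ : G → ℂ) g)) = _
        simp only [Cfsg.charDegree, Complex.conj_re]
      rcases hχ with rfl | rfl | rfl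
      · rcases hswap χ ψ (Or.inl rfl) (fun _ => rfl) with h | h | h
        · exact h
        · exact h
        · exact absurd (h ▸ hdeg).symm hne
      · rcases hswap χ ψ (Or.inr rfl) (fun _ => rfl) with h | h | h
        · exact h
        · exact absurd (h ▸ hdeg) hne
        · exact h
      · have hψB := conj_mem_principalBlock (ψ := ψ) (fun _ => rfl) (hmem χ (Or.inr (Or.inr rfl)))
        rw [D.block] at hψB
        have hJ : (ψ : G → ℂ) J = -1 := by
          show conj ((χ : G → ℂ) J) = -1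
          rw [D.values.2.2]; simp
        rcases hψB with h | h | h | h
        · exact absurd (congrFun h J) (by rw [hJ]; norm_num)
        · rw [h, D.values.1] at hJ; norm_num at hJ
        · rw [h, D.values.2.1] at hJ; norm_num at hJ
        · exact h
    have hnu : ∀ χ : IrrCharacter G, χ = χ₁ ∨ χ = χ₂ ∨ χ = χ₃ →
        conj (FSIndicator.nu (χ : G → ℂ)) = 1 := by
      intro χ hχ
      obtain ⟨n, hn, hn2⟩ := Cfsg.Agent.S0944.result χ J D.order
      have hodd : Odd (Cfsg.charDegree (χ : G → ℂ)) := by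
        have : n = 1 ∨ n = -1 := by
          rcases hχ with rfl | rfl | rfl
          · left; exact Int.cast_injective (α := ℂ) (by rw [← hn, D.values.1])
          · left; exact Int.cast_injective (α := ℂ) (by rw [← hn, D.values.2.1])
          · right; exact Int.cast_injective (α := ℂ) (by rw [← hn, D.values.2.2])
        rw [Nat.odd_iff]
        omega
      rw [show FSIndicator.nu (χ : G → ℂ) = 1 from CharactersDeep.OddDegreeIndicator.indicator_eq_one
        χ.2 (fun g => Complex.conj_eq_iff_im.1 (hreal χ hχ g)) (charDegree_cast χ).symm hodd,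
        map_one]
    have hsum := sum_nu_eq_zero D.isModular D.klein D.order
    rw [sum_block_four D.block D.distinct
      (fun χ => conj (FSIndicator.nu (χ : G → ℂ)) * (χ : G → ℂ) J), hnu χ₁ (Or.inl rfl),
      hnu χ₂ (Or.inr (Or.inl rfl)), hnu χ₃ (Or.inr (Or.inr rfl)), D.values.1, D.values.2.1,
      D.values.2.2] at hsum
    have hν : FSIndicator.nu ((trivChar G : IrrCharacter G) : G → ℂ) = 1 := by
      simp [FSIndicator.nu, Fintype.card_ne_zero]
    rw [hν, trivChar_apply] at hsum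
    norm_num at hsum
  exact ⟨rfl, rfl, hd, by omega⟩

end CfsgLib.BlocksFrobenius.Klein
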