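import Cfsg.Agent.BlocksFrobenius.KleinSetup
import Cfsg.Agent.BlocksFrobenius.InvolutionPairs
import Cfsg.Agent.BlocksLocal.PrincipalSection
import Cfsg.Agent.ClassPairs.Basic
import Cfsg.Agent.S0944

/-!
# The order formula for a Klein four Sylow subgroup and one class of involutions
-/

set_option autoImplicit false
set_option linter.unusedSectionVars false
set_option linter.style.haveILetI false

namespace CfsgLib.BlocksFrobenius.Klein

open Cfsg CfsgLib.Blocks CfsgLib.PrincipalBlock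
open scoped ComplexConjugate

universe u

variable {G : Type u} [Group G] [Fintype G]

open Classical in
/-- The sum of a character over the translate of a normal p-complement of a centralizer. -/
theorem sum_translate_conj {p : ℕ} [Fact p.Prime] {M : Ideal AlgInt} [M.IsPrime]
    (hM : Cfsg.IsPModular p M) {y : G} (hy : ∃ k, orderOf y = p ^ k) (L : Subgroup G) [Fintype L]
    (hLC : L ≤ Subgroup.centralizer ({y} : Set G))
    (hLn : (L.subgroupOf (Subgroup.centralizer ({y} : Set G))).Normal)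
    (hL : ¬ p ∣ Nat.card L)
    (hLi : ∃ k, (L.subgroupOf (Subgroup.centralizer ({y} : Set G))).index = p ^ k)
    (χ : IrrCharacter G) :
    ∑ l : L, conj ((χ : G → ℂ) (y * (l : G))) =
      (Nat.card L : ℂ) * if χ ∈ Cfsg.principalBlock M G then conj ((χ : G → ℂ) y) else 0 := by
  set C := Subgroup.centralizer ({y} : Set G)
  haveI := Fintype.ofFinite C
  set K := L.subgroupOf C with hKdef
  haveI := hLn
  have hcard : Nat.card K = Nat.card L := Nat.card_congr (Subgroup.subgroupOfEquivOfLe hLC).toEquiv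
  have hK : ¬ p ∣ Nat.card K := by rwa [hcard]
  have hK0 : (Nat.card K : ℂ) ≠ 0 := Nat.cast_ne_zero.2 Nat.card_pos.ne'
  have hi0 : (K.index : ℂ) ≠ 0 := Nat.cast_ne_zero.2 Subgroup.index_ne_zero_of_finite
  have hcoef : ∀ k : C, Cfsg.blockCoeff (Cfsg.principalBlock M C) k =
      if k ∈ K then (Nat.card K : ℂ)⁻¹ else 0 := by
    intro k
    have hbc := BlocksLocal.blockCoeff_principal_of_normal_complement hM K hK hLi k
    rw [Set.indicator_apply, ← Subgroup.card_mul_index K, Nat.cast_mul] at hbc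
    simp only [SetLike.mem_coe] at hbc
    split_ifs with hk
    · rw [if_pos hk, mul_one] at hbc
      field_simp
      exact mul_left_cancel₀ hi0 (by linear_combination hbc)
    · rw [if_neg hk, mul_zero, mul_eq_zero] at hbc
      exact hbc.resolve_left (mul_ne_zero hK0 hi0)
  have h1 := BlocksLocal.blockPart_principal_translate hM hy χ (y := (1 : C))
    (by rw [orderOf_one]; exact (Fact.out : p.Prime).not_dvd_one)
  rw [blockPart_eq_sum _ (isClassFunction_translate (χ : G → ℂ)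
    (Characters.isClassFunction_of_isIrr χ.2) (y : G))] at h1
  simp only [mul_one, OneMemClass.coe_one] at h1
  replace h1 : ∑ k : C, (if k ∈ K then (Nat.card K : ℂ)⁻¹ else 0) * (χ : G → ℂ) (y * (k : G)) =
      if χ ∈ Cfsg.principalBlock M G then (χ : G → ℂ) y else 0 :=
    (Finset.sum_congr rfl fun k _ => by rw [← hcoef k]).trans h1
  simp only [ite_mul, zero_mul, ← Finset.sum_filter, ← Finset.mul_sum] at h1
  rw [inv_mul_eq_iff_eq_mul₀ hK0] at h1
  have h2 : ∑ l : L, (χ : G → ℂ) (y * (l : G)) =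
      ∑ k ∈ Finset.univ.filter (fun k : C => k ∈ K), (χ : G → ℂ) (y * (k : G)) := by
    symm
    refine Finset.sum_bij' (fun k hk => (⟨k.1, Subgroup.mem_subgroupOf.1 (Finset.mem_filter.1 hk).2⟩ : L))
      (fun l _ => (⟨l.1, hLC l.2⟩ : C)) (fun _ _ => Finset.mem_univ _)
      (fun l _ => Finset.mem_filter.2 ⟨Finset.mem_univ _, Subgroup.mem_subgroupOf.2 l.2⟩)
      (fun _ _ => rfl) (fun _ _ => rfl) (fun _ _ => rfl)
  rw [← map_sum, h2, h1, map_mul, map_natCast, hcard, apply_ite conj, map_zero]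

/-- Sum over conjugators as a sum over the class. -/
theorem sum_conj_eq (z : G) (I : Finset G) (hI : ∀ u, u ∈ I ↔ IsConj z u) {β : Type*}
    [AddCommMonoid β] (f : G → β) :
    ∑ a : G, f (a * z * a⁻¹) =
      Nat.card (Subgroup.centralizer ({z} : Set G)) • ∑ u ∈ I, f u := by
  classical
  rw [← Finset.sum_fiberwise_of_maps_to (g := fun a : G => a * z * a⁻¹)
    (fun a _ => (hI _).2 (isConj_iff.2 ⟨a, rfl⟩)), Finset.smul_sum]
  refine Finset.sum_congr rfl fun u hu => ?_
  obtain ⟨a₀, ha₀⟩ := isConj_iff.1 ((hI u).1 hu)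
  rw [Finset.sum_congr rfl (g := fun _ => f u) (fun a ha => by rw [(Finset.mem_filter.1 ha).2]),
    Finset.sum_const]
  congr 1
  rw [Nat.card_eq_fintype_card, ← Fintype.card_coe]
  refine Fintype.card_congr ((Equiv.mulLeft a₀⁻¹).subtypeEquiv fun a => ?_)
  simp only [Equiv.coe_mulLeft, Finset.mem_filter, Finset.mem_univ, true_and,
    Subgroup.mem_centralizer_singleton_iff, ← ha₀]
  constructor
  · intro e
    calc a₀⁻¹ * a * z = a₀⁻¹ * (a * z * a⁻¹) * a := by group
      _ = a₀⁻¹ * (a₀ * z * a₀⁻¹) * a := by rw [e]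
      _ = z * (a₀⁻¹ * a) := by group
  · intro e
    calc a * z * a⁻¹ = a₀ * (a₀⁻¹ * a * z) * a⁻¹ := by group
      _ = a₀ * (z * (a₀⁻¹ * a)) * a⁻¹ := by rw [e]
      _ = a₀ * z * a₀⁻¹ := by group

open Classical in
set_option maxHeartbeats 800000 in
/-- **The order formula.** -/
theorem order_formula {M : Ideal AlgInt} (hM : Cfsg.IsPModular 2 M) (P : Sylow 2 G)
    (hP : IsKleinFour (P : Subgroup G))
    (hone : ∀ s t : G, orderOf s = 2 → orderOf t = 2 → IsConj s t)
    {z : G} (hzP : z ∈ (P : Subgroup G)) (hz : orderOf z = 2) :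
    (Nat.card G : ℂ) * (Nat.card (Subgroup.centralizer ((P : Subgroup G) : Set G)) : ℂ) ^ 2 *
        ∑ χ : IrrCharacter G, (if χ ∈ Cfsg.principalBlock M G then
          (χ : G → ℂ) z ^ 3 / (χ : G → ℂ) 1 else 0) =
      8 * (Nat.card (Subgroup.centralizer ({z} : Set G)) : ℂ) ^ 3 := by
  haveI : Fact (Nat.Prime 2) := ⟨Nat.prime_two⟩
  haveI : M.IsPrime := Blocks.IsPModular.isPrime hM
  obtain ⟨hz1, hzz⟩ := Small.orderOf_eq_two_iff_sq.1 hz
  obtain ⟨L, hLC, hLodd, hLn, hdec⟩ := exists_complement P hP hzP hz1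
  haveI := Fintype.ofFinite L
  obtain ⟨s, hs, hs1, hsz⟩ : ∃ s ∈ (P : Subgroup G), s ≠ 1 ∧ s ≠ z := by
    by_contra hno
    push Not at hno
    have hle : ((P : Subgroup G) : Set G) ⊆ {1, z} := fun x hx =>
      or_iff_not_imp_left.2 fun h1 => hno x hx h1
    have h4 := Set.ncard_le_ncard hle (Set.toFinite _)
    rw [show ((P : Subgroup G) : Set G).ncard = Nat.card (P : Subgroup G) from rfl,
      IsKleinFour.card_four, Set.ncard_pair (Ne.symm hz1)] at h4
    omega
  have hcomm := fun {a b : G} (ha : a ∈ (P : Subgroup G)) (hb : b ∈ (P : Subgroup G)) =>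
    Small.kleinFour_comm hP ha hb
  set C := Subgroup.centralizer ({z} : Set G) with hC
  have hPC : (P : Subgroup G) ≤ C := fun u hu =>
    Subgroup.mem_centralizer_singleton_iff.2 (hcomm hu hzP)
  -- orders
  have hmul : ∀ H : Subgroup G, (∀ c ∈ H, ∀ k q : G, k ∈ L → q ∈ (P : Subgroup G) → c = k * q →
      k ∈ H) → (P : Subgroup G) ≤ H → H ≤ C →
      Nat.card H = 4 * Nat.card ↥(L ⊓ H) := by
    intro H hH hPH hHC
    rw [← IsKleinFour.card_four (G := (P : Subgroup G)), mul_comm, ← Nat.card_prod]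
    symm
    refine Nat.card_eq_of_bijective (fun x : ↥(L ⊓ H) × (P : Subgroup G) =>
      (⟨(x.1 : G) * x.2, mul_mem (Subgroup.mem_inf.1 x.1.2).2 (hPH x.2.2)⟩ : H)) ⟨?_, ?_⟩
    · rintro ⟨a, b⟩ ⟨a', b'⟩ h
      have h' : (a : G) * b = (a' : G) * b' := congrArg Subtype.val h
      have := (hdec _ (hHC (mul_mem (Subgroup.mem_inf.1 a.2).2 (hPH b.2)))).unique
        (y₁ := ((a : G), (b : G))) (y₂ := ((a' : G), (b' : G)))
        ⟨(Subgroup.mem_inf.1 a.2).1, b.2, rfl⟩ ⟨(Subgroup.mem_inf.1 a'.2).1, b'.2, h'⟩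
      exact Prod.ext (Subtype.ext (Prod.ext_iff.1 this).1) (Subtype.ext (Prod.ext_iff.1 this).2)
    · rintro ⟨c, hc⟩
      obtain ⟨⟨k, q⟩, ⟨hk, hq, he⟩, -⟩ := hdec c (hHC hc)
      exact ⟨⟨⟨k, hk, hH c hc k q hk hq he⟩, ⟨q, hq⟩⟩, Subtype.ext he.symm⟩
  have hcC : Nat.card C = 4 * Nat.card L := by
    rw [hmul C (fun c hc k q hk _ _ => hLC hk) hPC le_rfl, inf_of_le_left hLC]
  set CP := Subgroup.centralizer ((P : Subgroup G) : Set G) with hCP
  have hPCP : (P : Subgroup G) ≤ CP := fun a ha =>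
    Subgroup.mem_centralizer_iff.2 fun b hb => hcomm hb ha
  have hCPC : CP ≤ C := fun a ha =>
    Subgroup.mem_centralizer_singleton_iff.2 (Subgroup.mem_centralizer_iff.1 ha z hzP).symm
  have hcP : Nat.card CP = 4 * Nat.card ↥(L ⊓ CP) := hmul CP (fun c hc k q hk hq he => by
    rw [show k = c * q⁻¹ by rw [he, mul_inv_cancel_right]]
    exact mul_mem hc (inv_mem (hPCP hq))) hPCP hCPC
  have hfix : ∀ q ∈ (P : Subgroup G), q ≠ 1 → q ≠ z →
      L ⊓ Subgroup.centralizer ({q} : Set G) = L ⊓ CP := by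
    intro q hq hq1 hqz
    refine le_antisymm (le_inf inf_le_left fun k hk => ?_) (le_inf inf_le_left fun k hk => ?_)
    · refine Subgroup.mem_centralizer_iff.2 fun b hb => ?_
      have h1 : Commute k z := Subgroup.mem_centralizer_singleton_iff.1 (hLC hk.1)
      have h2 : Commute k q := Subgroup.mem_centralizer_singleton_iff.1 hk.2
      rcases Small.kleinFour_cases hP hzP hq hb hz1 hq1 (Ne.symm hqz) with rfl | rfl | rfl | rfl
      · simp
      · exact h1.eq.symm
      · exact h2.eq.symm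
      · exact (h1.mul_right h2).eq.symm
    · exact Subgroup.mem_centralizer_singleton_iff.2 (Subgroup.mem_centralizer_iff.1 hk.2 q hq).symm
  -- counting pairs of involutions
  set I := Finset.univ.filter fun u : G => orderOf u = 2 with hI
  set S := (Finset.univ : Finset L).image fun l : L => z * (l : G) with hS
  have hcl : ∀ u, u ∈ I ↔ IsConj z u := fun u => by
    rw [hI, Finset.mem_filter]
    refine ⟨fun h => hone z u hz h.2, fun h => ⟨Finset.mem_univ _, ?_⟩⟩
    obtain ⟨c, rfl⟩ := isConj_iff.1 h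
    rw [show c * z * c⁻¹ = MulAut.conj c z from rfl, MulEquiv.orderOf_eq, hz]
  have hsP : s * z ∈ (P : Subgroup G) := mul_mem hs hzP
  have hnotL : ∀ q ∈ (P : Subgroup G), q ≠ 1 → q ∉ L := fun q hq hq1 hqL =>
    hq1 (eq_one_of_mem_both P hP hzP hz1 hLC hLodd hLn hdec hqL hq)
  have hsz1 : s * z ≠ 1 := fun h => hsz (by
    rw [mul_eq_one_iff_eq_inv.1 h, inv_eq_of_mul_eq_one_left hzz])
  have hszz : s * z ≠ z := fun h => hs1 (mul_eq_right.1 h)
  have hcount : ∀ q ∈ (P : Subgroup G), q ≠ 1 → q ≠ z →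
      Nat.card (cosetInv L q) * Nat.card ↥(L ⊓ CP) = Nat.card L := by
    intro q hq hq1 hqz
    rw [← hfix q hq hq1 hqz]
    exact card_cosetInv P hP hzP hz1 hLC hLodd hLn hdec hq (hnotL q hq hq1)
  have hN : ((I ×ˢ I).filter fun x => x.1 * x.2 ∈ S).card =
      2 * (Nat.card (cosetInv L s) * Nat.card (cosetInv L (s * z))) := by
    have hset : (I ×ˢ I).filter (fun x => x.1 * x.2 ∈ S) =
        (cosetInv L s).toFinset ×ˢ (cosetInv L (s * z)).toFinset ∪
          (cosetInv L (s * z)).toFinset ×ˢ (cosetInv L s).toFinset := by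
      ext ⟨u, v⟩
      rw [Finset.mem_union, Finset.mem_product, Finset.mem_product, Set.mem_toFinset,
        Set.mem_toFinset, Set.mem_toFinset, Set.mem_toFinset,
        ← pair_iff P hP hzP hz1 hLC hLodd hLn hdec hs hs1 hsz u v]
      simp [hI, hS, and_assoc, eq_comm]
    rw [hset, Finset.card_union_of_disjoint, Finset.card_product, Finset.card_product,
      Set.toFinset_card, Set.toFinset_card, ← Nat.card_eq_fintype_card,
      ← Nat.card_eq_fintype_card]
    · ring
    · refine Finset.disjoint_left.2 fun x hx hx' => ?_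
      obtain ⟨k, hk, he, -⟩ := Set.mem_toFinset.1 (Finset.mem_product.1 hx).1
      obtain ⟨k', hk', he', -⟩ := Set.mem_toFinset.1 (Finset.mem_product.1 hx').1
      have hx1 : x.1 ∈ C := he ▸ mul_mem (hLC hk) (hPC hs)
      have h3 := (Prod.ext_iff.1 ((hdec _ hx1).unique (y₁ := (k, s)) (y₂ := (k', s * z))
        ⟨hk, hs, he⟩ ⟨hk', hsP, he'⟩)).2
      exact hz1 (mul_eq_left.1 h3.symm)
  -- the character side
  have hS' : ∀ χ : IrrCharacter G, ∑ x ∈ S, conj ((χ : G → ℂ) x) =
      (Nat.card L : ℂ) * if χ ∈ Cfsg.principalBlock M G then conj ((χ : G → ℂ) z) else 0 := by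
    intro χ
    rw [hS, Finset.sum_image fun a _ b _ e => Subtype.ext (mul_left_cancel e)]
    refine sum_translate_conj hM ⟨1, by rw [hz, pow_one]⟩ L hLC hLn
      (fun h2 => by obtain ⟨a, ha⟩ := hLodd; omega) ⟨2, ?_⟩ χ
    have := (L.subgroupOf C).index_mul_card
    rw [Nat.card_congr (Subgroup.subgroupOfEquivOfLe hLC).toEquiv, hcC] at this
    exact Nat.eq_of_mul_eq_mul_right Nat.card_pos this
  have hp := ClassPairs.card_pairs z z S
  simp only [hS'] at hp
  have hL : (∑ a : G, ∑ b : G, if a * z * a⁻¹ * (b * z * b⁻¹) ∈ S then (1 : ℂ) else 0) =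
      (Nat.card C : ℂ) ^ 2 * (((I ×ˢ I).filter fun x => x.1 * x.2 ∈ S).card : ℂ) := by
    rw [sum_conj_eq z I hcl (fun u => ∑ b : G, if u * (b * z * b⁻¹) ∈ S then (1 : ℂ) else 0)]
    rw [Finset.sum_congr rfl fun u _ =>
      sum_conj_eq z I hcl (fun v => if u * v ∈ S then (1 : ℂ) else 0)]
    rw [← Finset.smul_sum, smul_smul, nsmul_eq_mul, Nat.cast_mul, ← sq,
      ← Finset.sum_product', Finset.sum_boole]
  rw [hL, hN, hcC] at hp
  have hreal : ∀ χ : IrrCharacter G,
      (Nat.card L : ℂ) * (if χ ∈ Cfsg.principalBlock M G then conj ((χ : G → ℂ) z) else 0) *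
        ((χ : G → ℂ) z * (χ : G → ℂ) z / (χ : G → ℂ) 1) =
      (Nat.card L : ℂ) * (if χ ∈ Cfsg.principalBlock M G then
        (χ : G → ℂ) z ^ 3 / (χ : G → ℂ) 1 else 0) := by
    intro χ
    obtain ⟨m, hm, -⟩ := Cfsg.Agent.S0944.result χ z hz
    split_ifs
    · rw [hm, map_intCast]; ring
    · ring
  rw [Finset.sum_congr rfl fun χ _ => hreal χ, ← Finset.mul_sum] at hp
  have e1 := congrArg (Nat.cast : ℕ → ℂ) (hcount s hs hs1 hsz)
  have e2 := congrArg (Nat.cast : ℕ → ℂ) (hcount _ hsP hsz1 hszz)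
  push_cast at hp e1 e2
  have hl0 : (Nat.card L : ℂ) ≠ 0 := Nat.cast_ne_zero.2 Nat.card_pos.ne'
  rw [hcP, hcC]
  push_cast
  apply mul_left_cancel₀ hl0
  linear_combination (-16 * (Nat.card ↥(L ⊓ CP) : ℂ) ^ 2) * hp +
    (512 * (Nat.card L : ℂ) ^ 2 * (Nat.card (cosetInv L (s * z)) : ℂ) *
      (Nat.card ↥(L ⊓ CP) : ℂ)) * e1 + (512 * (Nat.card L : ℂ) ^ 3) * e2

end CfsgLib.BlocksFrobenius.Klein
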