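import Cfsg.Agent.Small.KleinSylow
import Cfsg.Agent.Blocks.PPart
import Cfsg.Agent.S1124
import Cfsg.Prelude.Def_Blocks
import Mathlib.GroupTheory.Transfer

/-!
# The centralizer of an involution with a Klein four Sylow subgroup, and products of two involutions
-/

set_option autoImplicit false
set_option linter.unusedSectionVars false
set_option linter.style.haveILetI false

namespace CfsgLib.BlocksFrobenius.Klein

open Cfsg

variable {G : Type*} [Group G] [Finite G]

/-- The centralizer of an involution of a Klein four Sylow subgroup has a normal 2-complement of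
index four. -/
theorem exists_complement (P : Sylow 2 G) (hP : IsKleinFour (P : Subgroup G)) {z : G}
    (hzP : z ∈ (P : Subgroup G)) (hz1 : z ≠ 1) :
    ∃ L : Subgroup G, L ≤ Subgroup.centralizer ({z} : Set G) ∧ Odd (Nat.card L) ∧
      (L.subgroupOf (Subgroup.centralizer ({z} : Set G))).Normal ∧
      (∀ c ∈ Subgroup.centralizer ({z} : Set G), ∃! p : G × G,
        p.1 ∈ L ∧ p.2 ∈ (P : Subgroup G) ∧ c = p.1 * p.2) := by
  classical
  haveI : Fact (Nat.Prime 2) := ⟨Nat.prime_two⟩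
  set C := Subgroup.centralizer ({z} : Set G) with hC
  have hPC : (P : Subgroup G) ≤ C := fun u hu =>
    Subgroup.mem_centralizer_singleton_iff.2 (Small.kleinFour_comm hP hu hzP)
  let P' : Sylow 2 C := P.subtype hPC
  have hN : Subgroup.normalizer ((P' : Subgroup C) : Set C) ≤
      Subgroup.centralizer ((P' : Subgroup C) : Set C) := by
    intro n hn
    rw [Sylow.coe_subtype] at hn ⊢
    have hn' : (n : G) ∈ Subgroup.normalizer ((P : Subgroup G) : Set G) := by
      rw [Subgroup.mem_normalizer_iff]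
      intro u
      constructor
      · intro hu
        exact (Subgroup.mem_normalizer_iff.1 hn ⟨u, hPC hu⟩).1 hu
      · intro hu
        have hmem : u ∈ C := by
          have := mul_mem (mul_mem (Subgroup.inv_mem _ n.2) (hPC hu)) n.2
          simpa [mul_assoc] using this
        exact (Subgroup.mem_normalizer_iff.1 hn ⟨u, hmem⟩).2 hu
    have h := Small.mem_centralizer_of_fix_one P hP hn' hzP hz1
      (by rw [Subgroup.mem_centralizer_singleton_iff.1 n.2, mul_inv_cancel_right])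
    exact Subgroup.mem_centralizer_iff.2 fun u hu =>
      Subtype.ext (Subgroup.mem_centralizer_iff.1 h (u : G) hu)
  have hcompl := MonoidHom.ker_transferSylow_isComplement' P' hN
  set K := (MonoidHom.transferSylow P' hN).ker with hK
  have hKodd : ¬ 2 ∣ Nat.card K := by
    rw [← hcompl.index_eq_card]
    exact P'.not_dvd_index
  refine ⟨K.map C.subtype, Subgroup.map_subtype_le K, ?_, ?_, fun c hc => ?_⟩
  · rw [Subgroup.card_subtype, Nat.odd_iff]
    omega
  · rw [Subgroup.subgroupOf, Subgroup.comap_map_eq_self_of_injective C.subtype_injective]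
    rw [hK]
    infer_instance
  · obtain ⟨⟨k, q⟩, hkq⟩ := hcompl.2 ⟨c, hc⟩
    have hkq' : (k : G) * (q : C) = c := congrArg Subtype.val hkq
    refine ⟨((k : C), (q : C)), ⟨⟨k, k.2, rfl⟩, ?_, hkq'.symm⟩, ?_⟩
    · have := q.2
      simp only [P', Sylow.coe_subtype, Subgroup.mem_subgroupOf] at this
      exact this
    rintro ⟨a, b⟩ ⟨ha, hb, hab⟩
    obtain ⟨a', ha', rfl⟩ := ha
    have hb' : (⟨b, hPC hb⟩ : C) ∈ (P' : Subgroup C) := by
      simp only [P', Sylow.coe_subtype, Subgroup.mem_subgroupOf]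
      exact hb
    have h2 : ((⟨a', ha'⟩ : K), (⟨⟨b, hPC hb⟩, hb'⟩ : (P' : Subgroup C))) = (k, q) :=
      hcompl.1 (Subtype.ext (hab.symm.trans hkq'.symm))
    obtain ⟨h3, h4⟩ := Prod.ext_iff.1 h2
    refine Prod.ext ?_ ?_
    · exact congrArg (fun x : K => ((x : C) : G)) h3
    · exact congrArg (fun x : (P' : Subgroup C) => ((x : C) : G)) h4

section Count

variable (P : Sylow 2 G) (hP : IsKleinFour (P : Subgroup G)) {z : G}
  (hzP : z ∈ (P : Subgroup G)) (hz1 : z ≠ 1) {L : Subgroup G}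
  (hLC : L ≤ Subgroup.centralizer ({z} : Set G)) (hLodd : Odd (Nat.card L))
  (hLn : (L.subgroupOf (Subgroup.centralizer ({z} : Set G))).Normal)
  (hdec : ∀ c ∈ Subgroup.centralizer ({z} : Set G), ∃! p : G × G,
    p.1 ∈ L ∧ p.2 ∈ (P : Subgroup G) ∧ c = p.1 * p.2)

include hP hzP hz1 hLC hLodd hLn hdec

theorem conj_mem {c k : G} (hc : c ∈ Subgroup.centralizer ({z} : Set G)) (hk : k ∈ L) :
    c * k * c⁻¹ ∈ L :=
  Subgroup.mem_subgroupOf.1 (hLn.conj_mem ⟨k, hLC hk⟩ (Subgroup.mem_subgroupOf.2 hk) ⟨c, hc⟩)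

theorem eq_one_of_mem_both {x : G} (hxL : x ∈ L) (hxP : x ∈ (P : Subgroup G)) : x = 1 := by
  have h := (hdec x (hLC hxL)).unique (y₁ := (x, 1)) (y₂ := (1, x))
    ⟨hxL, one_mem _, (mul_one x).symm⟩ ⟨one_mem _, hxP, (one_mul x).symm⟩
  exact (Prod.ext_iff.1 h).1

/-- The involutions of the coset of `q`. -/
def cosetInv (L : Subgroup G) (q : G) : Set G := {u | ∃ k ∈ L, u = k * q ∧ orderOf u = 2}

theorem card_cosetInv {q : G} (hq : q ∈ (P : Subgroup G)) (hqL : q ∉ L) :
    Nat.card (cosetInv L q) * Nat.card ↥(L ⊓ Subgroup.centralizer ({q} : Set G)) = Nat.card L := by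
  have hq1 : q ≠ 1 := fun h => hqL (h ▸ L.one_mem)
  have hqq : q * q = 1 := Small.kleinFour_mul_self hP hq
  have hqi : q⁻¹ = q := inv_eq_of_mul_eq_one_left hqq
  have hqo : orderOf q = 2 := Small.orderOf_eq_two_iff_sq.2 ⟨hq1, hqq⟩
  have hqC : q ∈ Subgroup.centralizer ({z} : Set G) :=
    Subgroup.mem_centralizer_singleton_iff.2 (Small.kleinFour_comm hP hq hzP)
  have h := (Cfsg.Agent.S1124.result q hqo L hLodd fun x hx =>
    conj_mem P hP hzP hz1 hLC hLodd hLn hdec hqC hx).2.1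
  rw [h, mul_comm]
  congr 1
  refine Nat.card_congr ((Equiv.mulRight q).subtypeEquiv fun k => ?_).symm
  rw [Equiv.coe_mulRight]
  have hkey : (k * q) * (k * q) = 1 ↔ q * k * q⁻¹ = k⁻¹ := by
    rw [hqi, mul_eq_one_iff_eq_inv']
    constructor
    · intro e
      calc q * k * q = k⁻¹ * ((k * q) * (k * q)) := by group
        _ = k⁻¹ := by rw [mul_eq_one_iff_eq_inv'.2 e, mul_one]
    · intro e
      rw [← mul_eq_one_iff_eq_inv']
      calc k * q * (k * q) = k * (q * k * q) := by group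
        _ = 1 := by rw [e, mul_inv_cancel]
  constructor
  · rintro ⟨hk, hinv⟩
    refine ⟨k, hk, rfl, Small.orderOf_eq_two_iff_sq.2 ⟨fun h1 => hqL ?_, hkey.2 hinv⟩⟩
    rw [show q = k⁻¹ from eq_inv_of_mul_eq_one_right h1]
    exact inv_mem hk

  · rintro ⟨k', hk', he, ho⟩
    rw [← mul_right_cancel he] at hk'
    exact ⟨hk', hkey.1 (Small.orderOf_eq_two_iff_sq.1 ho).2⟩

/-- Two involutions whose product has 2-part `z`. -/
theorem pair_iff {s : G} (hs : s ∈ (P : Subgroup G)) (hs1 : s ≠ 1) (hsz : s ≠ z) (u v : G) :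
    (orderOf u = 2 ∧ orderOf v = 2 ∧ ∃ l ∈ L, u * v = z * l) ↔
      (u ∈ cosetInv L s ∧ v ∈ cosetInv L (s * z)) ∨
        (u ∈ cosetInv L (s * z) ∧ v ∈ cosetInv L s) := by
  have hzz : z * z = 1 := Small.kleinFour_mul_self hP hzP
  have hss : s * s = 1 := Small.kleinFour_mul_self hP hs
  have hsz' : s * z = z * s := Small.kleinFour_comm hP hs hzP
  have hsC : s ∈ Subgroup.centralizer ({z} : Set G) := Subgroup.mem_centralizer_singleton_iff.2 hsz'
  have hzC : z ∈ Subgroup.centralizer ({z} : Set G) := Subgroup.mem_centralizer_singleton_iff.2 rfl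
  have hLz : ∀ l ∈ L, l * z = z * l := fun l hl =>
    Subgroup.mem_centralizer_singleton_iff.1 (hLC hl)
  constructor
  · rintro ⟨hu, hv, l, hl, huv⟩
    have huu : u * u = 1 := (Small.orderOf_eq_two_iff_sq.1 hu).2
    have hvv : v * v = 1 := (Small.orderOf_eq_two_iff_sq.1 hv).2
    have hui : u⁻¹ = u := inv_eq_of_mul_eq_one_left huu
    have hvi : v⁻¹ = v := inv_eq_of_mul_eq_one_left hvv
    have hinv : u * (z * l) * u⁻¹ = (z * l)⁻¹ := by
      rw [← huv, hui, mul_inv_rev, hui, hvi]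
      calc u * (u * v) * u = (u * u) * (v * u) := by group
        _ = v * u := by rw [huu, one_mul]
    have hpow : (z * l) ^ Nat.card L = z := by
      rw [Commute.mul_pow (hLz l hl).symm, orderOf_dvd_iff_pow_eq_one.1
        (Subgroup.orderOf_dvd_natCard L hl), mul_one]
      obtain ⟨a, ha⟩ := hLodd
      rw [ha, pow_succ, pow_mul, sq, hzz, one_pow, one_mul]
    have huC : u ∈ Subgroup.centralizer ({z} : Set G) := by
      have := congrArg (· ^ Nat.card L) hinv
      simp only [conj_pow, inv_pow, hpow] at this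
      rw [inv_eq_of_mul_eq_one_left hzz, mul_inv_eq_iff_eq_mul] at this
      exact Subgroup.mem_centralizer_singleton_iff.2 this
    obtain ⟨⟨k, q⟩, ⟨hk, hq, he⟩, -⟩ := hdec u huC
    have hkC : ∀ {c k : G}, c ∈ Subgroup.centralizer ({z} : Set G) → k ∈ L → c * k * c⁻¹ ∈ L :=
      fun hc hk => conj_mem P hP hzP hz1 hLC hLodd hLn hdec hc hk
    have hvq : ∃ k' ∈ L, v = k' * (q * z) := by
      refine ⟨(u * z) * l * (u * z)⁻¹ * k, mul_mem (hkC (mul_mem huC hzC) hl) hk, ?_⟩
      calc v = u * (z * l) := by rw [← huv, ← mul_assoc, huu, one_mul]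
        _ = (u * z) * l * (u * z)⁻¹ * (u * z) := by group
        _ = _ := by conv_lhs => rw [he]; simp only [mul_assoc]
                    simp only [mul_assoc, he]
    have hne : ∀ r : G, r ∈ (P : Subgroup G) → ∀ w k₀ : G, k₀ ∈ L → w = k₀ * r → orderOf w = 2 →
        r ≠ 1 := by
      rintro r - w k₀ hk₀ rfl ho rfl
      rw [mul_one] at ho
      have h2 : 2 ∣ Nat.card L := ho ▸ Subgroup.orderOf_dvd_natCard L hk₀
      obtain ⟨a, ha⟩ := hLodd
      omega
    obtain ⟨k', hk', hv'⟩ := hvq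
    have hq1 := hne q hq u k hk he hu
    have hqz : q ≠ z := fun h => hne (q * z) (mul_mem hq hzP) v k' hk' hv' hv (by rw [h, hzz])
    rcases Small.kleinFour_cases hP hzP hs hq hz1 hs1 hsz.symm with h | h | h | h
    · exact absurd h hq1
    · exact absurd h hqz
    · subst h
      exact Or.inl ⟨⟨k, hk, he, hu⟩, k', hk', hv', hv⟩
    · rw [← hsz'] at h
      subst h
      refine Or.inr ⟨⟨k, hk, he, hu⟩, k', hk', ?_, hv⟩
      rw [hv', mul_assoc s, hzz, mul_one]
  · have key : ∀ {a b : G}, a ∈ Subgroup.centralizer ({z} : Set G) → a * b = z →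
        u ∈ cosetInv L a → v ∈ cosetInv L b →
        orderOf u = 2 ∧ orderOf v = 2 ∧ ∃ l ∈ L, u * v = z * l := by
      rintro a b ha hab ⟨k, hk, rfl, hu⟩ ⟨k', hk', rfl, hv⟩
      refine ⟨hu, hv, _, mul_mem hk (conj_mem P hP hzP hz1 hLC hLodd hLn hdec ha hk'), ?_⟩
      rw [← hLz _ (mul_mem hk (conj_mem P hP hzP hz1 hLC hLodd hLn hdec ha hk'))]
      calc k * a * (k' * b) = k * (a * k' * a⁻¹) * (a * b) := by group
        _ = _ := by rw [hab]
    rintro (⟨hu, hv⟩ | ⟨hu, hv⟩)
    · exact key hsC (by rw [← mul_assoc, hss, one_mul]) hu hv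
    · exact key (mul_mem hsC hzC) (by rw [hsz', mul_assoc, hss, mul_one]) hu hv

end Count

end CfsgLib.BlocksFrobenius.Klein
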