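import Cfsg.Agent.BlocksFrobenius.KleinOrder
import Cfsg.Agent.Indicator.Basic
import Cfsg.Agent.CharactersDeep.OddDegreeIndicator
import Cfsg.Agent.InvolColumn.Basic
import Cfsg.Agent.Blocks.RegularSupport
import Cfsg.Agent.PrincipalBlock.Basic
import Mathlib.GroupTheory.Transfer

/-!
# Four characters in the principal block with a Klein four Sylow subgroup
-/

set_option autoImplicit false
set_option linter.unusedSectionVars false
set_option linter.style.haveILetI false

namespace CfsgLib.BlocksFrobenius.Klein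

open Cfsg CfsgLib.Blocks CfsgLib.PrincipalBlock CfsgLib.Characters
open scoped ComplexConjugate

universe u

variable {G : Type u} [Group G] [Fintype G]

theorem klein_and_one_class {g₀ : ℕ} (hg : Odd g₀) (hG : Nat.card G = 4 * g₀)
    (hnc : ¬ ∃ N : Subgroup G, N.Normal ∧ Nat.card N = g₀) (P : Sylow 2 G) :
    IsKleinFour (P : Subgroup G) ∧ ∀ s t : G, orderOf s = 2 → orderOf t = 2 → IsConj s t := by
  haveI : Fact (Nat.Prime 2) := ⟨Nat.prime_two⟩
  have hP4 : Nat.card (P : Subgroup G) = 4 := by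
    rw [P.card_eq_multiplicity, hG, Nat.factorization_mul (by norm_num) hg.pos.ne',
      Finsupp.add_apply, show (4 : ℕ) = 2 ^ 2 from rfl, Nat.prime_two.factorization_pow,
      Finsupp.single_eq_same, Nat.factorization_eq_zero_of_not_dvd
        (fun h => by obtain ⟨a, ha⟩ := hg; omega), add_zero]
  have hnocomp : ¬ ∃ N : Subgroup G, N.Normal ∧ Subgroup.IsComplement' N (P : Subgroup G) := by
    rintro ⟨N, hN, hc⟩
    refine hnc ⟨N, hN, ?_⟩
    have h := hc.card_mul
    rw [hP4, hG] at h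
    omega
  have hcyc : ¬ IsCyclic (P : Subgroup G) := by
    intro hc
    have hmin : (Nat.card G).minFac = 2 := by
      rw [Nat.minFac_eq_two_iff, hG]; exact ⟨2 * g₀, by ring⟩
    exact hnocomp ⟨_, inferInstance, MonoidHom.ker_transferSylow_isComplement' P
      (IsCyclic.normalizer_le_centralizer hmin hc)⟩
  have hK : IsKleinFour (P : Subgroup G) :=
    ⟨hP4, (not_isCyclic_iff_exponent_eq_prime Nat.prime_two (by rw [hP4]; rfl)).1 hcyc⟩
  refine ⟨hK, fun s t hs ht => ?_⟩
  rcases Small.kleinFour_classes P hK with ⟨-, hN⟩ | ⟨h1, -⟩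
  · exact absurd hN hnocomp
  · haveI := (Nat.card_eq_one_iff_unique.1 h1).1
    exact ConjClasses.mk_eq_mk_iff_isConj.1 (congrArg Subtype.val
      (Subsingleton.elim (⟨ConjClasses.mk s, s, hs, rfl⟩ :
        {C : ConjClasses G // ∃ t : G, orderOf t = 2 ∧ ConjClasses.mk t = C}) ⟨_, t, ht, rfl⟩))

variable {M : Ideal AlgInt} [M.IsPrime]

/-- The complex conjugate of a member of the principal block. -/
theorem conj_mem_principalBlock {χ ψ : IrrCharacter G}
    (hψ : ∀ g, (ψ : G → ℂ) g = conj ((χ : G → ℂ) g)) (hχ : χ ∈ Cfsg.principalBlock M G) :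
    ψ ∈ Cfsg.principalBlock M G := by
  intro g
  have h1 : ∀ g : G, Subgroup.centralizer ({g⁻¹} : Set G) = Subgroup.centralizer ({g} : Set G) :=
    fun g => by
      ext x
      simp only [Subgroup.mem_centralizer_singleton_iff]
      exact ⟨fun h => (Commute.inv_right_iff.1 h).eq, fun h => (Commute.inv_right h).eq⟩
  have h := hχ g⁻¹
  unfold Cfsg.centralChar at h ⊢
  rw [h1, Characters.character_inv (Characters.isCharacter_of_isIrr χ.2)] at h
  rw [hψ, hψ, show conj ((χ : G → ℂ) 1) = (χ : G → ℂ) 1 from Blocks.conj_one_irr χ]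
  exact h

variable {P : Sylow 2 G}

theorem four_dvd_not_orderOf (hP : IsKleinFour (P : Subgroup G)) (r : G) : ¬ 4 ∣ orderOf r := by
  intro h4
  haveI : Fact (Nat.Prime 2) := ⟨Nat.prime_two⟩
  obtain ⟨k, hk⟩ := h4
  have ho : orderOf (r ^ k) = 2 ^ 2 := by
    rw [orderOf_pow' r (fun h => by rw [h, mul_zero] at hk; exact (orderOf_pos r).ne' hk), hk,
      Nat.gcd_eq_right (dvd_mul_left k 4), Nat.mul_div_cancel _ (Nat.pos_of_ne_zero fun h => by
        rw [h, mul_zero] at hk; exact (orderOf_pos r).ne' hk)]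
    rfl
  obtain ⟨S, hS⟩ := (IsPGroup.of_card (p := 2) (n := 2)
    (show Nat.card (Subgroup.zpowers (r ^ k)) = 2 ^ 2 by rw [Nat.card_zpowers, ho])).exists_le_sylow
  obtain ⟨c, hc⟩ := MulAction.exists_smul_eq G S P
  have hx : c * r ^ k * c⁻¹ ∈ (P : Subgroup G) := by
    rw [← hc, Sylow.coe_subgroup_smul]
    exact Subgroup.smul_mem_pointwise_smul _ _ _ (hS (Subgroup.mem_zpowers _))
  have h2 := Small.kleinFour_mul_self hP hx
  have h3 : r ^ k * r ^ k = 1 := by
    have h5 : c⁻¹ * (c * r ^ k * c⁻¹ * (c * r ^ k * c⁻¹)) * c = 1 := by rw [h2]; group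
    simpa [mul_assoc] using h5
  have := orderOf_dvd_of_pow_eq_one (x := r ^ k) (n := 2) (by rw [sq]; exact h3)
  rw [ho] at this
  norm_num at this

open Classical in
theorem sum_nu_eq_zero (hM : Cfsg.IsPModular 2 M) (hP : IsKleinFour (P : Subgroup G)) {z : G}
    (hz : orderOf z = 2) :
    ∑ χ : IrrCharacter G, (if χ ∈ Cfsg.principalBlock M G then
      conj (FSIndicator.nu (χ : G → ℂ)) * (χ : G → ℂ) z else 0) = 0 := by
  haveI : Fact (Nat.Prime 2) := ⟨Nat.prime_two⟩
  set θ : G → ℂ := fun u => ∑ r : G, if r * r = u then 1 else 0 with hθ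
  have hcl : Cfsg.IsClassFunction G θ := by
    intro g h
    refine (Fintype.sum_equiv (MulAut.conj h).toEquiv _ _ fun r => ?_).symm
    refine if_congr ?_ rfl rfl
    simp only [MulEquiv.toEquiv_eq_coe, MulEquiv.coe_toEquiv, MulAut.conj_apply]
    constructor
    · rintro rfl; group
    · intro e
      calc r * r = h⁻¹ * (h * r * h⁻¹ * (h * r * h⁻¹)) * h := by group
        _ = g := by rw [e]; group
  have hc : ∀ χ : IrrCharacter G, Cfsg.classInner θ (χ : G → ℂ) = conj (FSIndicator.nu (χ : G → ℂ)) := by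
    intro χ
    rw [FSIndicator.nu, map_mul, map_inv₀, Complex.conj_natCast, map_sum, Cfsg.classInner]
    congr 1
    simp only [hθ, Finset.sum_mul, ite_mul, one_mul, zero_mul]
    rw [Finset.sum_comm]
    exact Finset.sum_congr rfl fun r _ => by simp
  have hvan : ∀ u w : G, Cfsg.IsPPart 2 u w → IsConj z w →
      ∑ χ : IrrCharacter G, conj (FSIndicator.nu (χ : G → ℂ)) * (χ : G → ℂ) u = 0 := ?_
  · exact InvolColumn.sum_block_eq_zero (B := Cfsg.principalBlock M G) hM isPBlock_principalBlock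
      (fun χ => conj (FSIndicator.nu (χ : G → ℂ))) ⟨1, by rw [hz, pow_one]⟩ hvan
  intro u w hu hzw
  have hexp := congrFun (Characters.classFunction_expansion hcl) u
  rw [Finset.sum_apply] at hexp
  simp only [Pi.smul_apply, smul_eq_mul, hc] at hexp
  rw [← hexp]
  refine Finset.sum_eq_zero fun r _ => if_neg fun hr => ?_
  obtain ⟨s, rfl, hcomm, -, hs⟩ := hu
  have hw : orderOf w = 2 := by
    obtain ⟨c, rfl⟩ := isConj_iff.1 hzw
    rw [show c * z * c⁻¹ = MulAut.conj c z from rfl, MulEquiv.orderOf_eq, hz]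
  have h2 : 2 ∣ orderOf (r * r) := by
    rw [hr, hcomm.orderOf_mul_eq_mul_orderOf_of_coprime (by
      rw [hw]; exact (Nat.prime_two.coprime_iff_not_dvd).2 hs), hw]
    exact dvd_mul_right 2 _
  rw [← sq, orderOf_pow] at h2
  refine four_dvd_not_orderOf hP r ?_
  rcases Nat.even_or_odd (orderOf r) with he | ho
  · have h22 : 2 ∣ orderOf r := even_iff_two_dvd.1 he
    rw [Nat.gcd_eq_right h22] at h2
    obtain ⟨a, ha⟩ := h2
    exact ⟨a, by omega⟩
  · rw [Nat.coprime_iff_gcd_eq_one.1 ho.coprime_two_right, Nat.div_one] at h2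
    obtain ⟨a, ha⟩ := ho
    omega

variable {χ₁ χ₂ χ₃ : IrrCharacter G}

open Classical in
theorem sum_block_four
    (hB : Cfsg.principalBlock M G = {χ : Cfsg.IrrCharacter G |
      (χ : G → ℂ) = (fun _ => 1) ∨ χ = χ₁ ∨ χ = χ₂ ∨ χ = χ₃})
    (hdist : (χ₁ : G → ℂ) ≠ (fun _ => 1) ∧ (χ₂ : G → ℂ) ≠ (fun _ => 1) ∧
      (χ₃ : G → ℂ) ≠ (fun _ => 1) ∧ χ₁ ≠ χ₂ ∧ χ₁ ≠ χ₃ ∧ χ₂ ≠ χ₃)
    (f : IrrCharacter G → ℂ) :
    ∑ χ : IrrCharacter G, (if χ ∈ Cfsg.principalBlock M G then f χ else 0) =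
      f (trivChar G) + f χ₁ + f χ₂ + f χ₃ := by
  obtain ⟨h1, h2, h3, h12, h13, h23⟩ := hdist
  have hs : (Finset.univ.filter fun χ => χ ∈ Cfsg.principalBlock M G) =
      {trivChar G, χ₁, χ₂, χ₃} := by
    ext χ
    simp [hB, Subtype.ext_iff, trivChar]
  rw [← Finset.sum_filter, hs, Finset.sum_insert, Finset.sum_insert, Finset.sum_insert,
    Finset.sum_singleton]
  · ring
  · simp [h23]
  · simp [h12, h13]
  · simp only [Finset.mem_insert, Finset.mem_singleton, not_or]
    exact ⟨fun h => h1 (congrArg Subtype.val h).symm, fun h => h2 (congrArg Subtype.val h).symm,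
      fun h => h3 (congrArg Subtype.val h).symm⟩

end CfsgLib.BlocksFrobenius.Klein
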