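import Cfsg.Agent.BlocksFrobenius.Columns

/-!
# Orbits of the nonprincipal linear characters of `P` under its induced automorphisms
-/

set_option autoImplicit false
set_option linter.style.haveILetI false
set_option linter.unusedSectionVars false

namespace CfsgLib.BlocksFrobenius

open Cfsg
open scoped ComplexConjugate

universe u

variable {G : Type u} [Group G] [Fintype G] {p : ℕ} [Fact p.Prime] {P : Sylow p G}

/-- The nonprincipal linear characters. -/
abbrev Lin0 (P : Sylow p G) := {ψ : (P : Subgroup G) →* ℂˣ // ψ ≠ 1}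

/-- Composition with an automorphism. -/
def pre (f : MulAut (P : Subgroup G)) (ψ : (P : Subgroup G) →* ℂˣ) : (P : Subgroup G) →* ℂˣ :=
  ψ.comp f.toMonoidHom

theorem pre_apply (f : MulAut (P : Subgroup G)) (ψ : (P : Subgroup G) →* ℂˣ)
    (w : (P : Subgroup G)) : pre f ψ w = ψ (f w) := rfl

theorem pre_one (ψ : (P : Subgroup G) →* ℂˣ) : pre 1 ψ = ψ := rfl

theorem pre_pre (f g : MulAut (P : Subgroup G)) (ψ : (P : Subgroup G) →* ℂˣ) :
    pre f (pre g ψ) = pre (g * f) ψ := rfl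

theorem pre_ne_one {f : MulAut (P : Subgroup G)} {ψ : (P : Subgroup G) →* ℂˣ} (hψ : ψ ≠ 1) :
    pre f ψ ≠ 1 := fun h => hψ (MonoidHom.ext fun w => by
  have := DFunLike.congr_fun h (f⁻¹ w)
  simpa [pre_apply] using this)

theorem pre_eq_self_iff (h : Semireg P) {f : MulAut (P : Subgroup G)} (hf : f ∈ aut P)
    {ψ : (P : Subgroup G) →* ℂˣ} (hψ : ψ ≠ 1) : pre f ψ = ψ ↔ f = 1 := by
  refine ⟨fun he => ?_, fun he => by rw [he, pre_one]⟩
  by_contra hne
  have hcomm : ∀ a b : (P : Subgroup G), a * b = b * a := h.comm.is_comm.comm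
  have hinj : Function.Injective fun w : (P : Subgroup G) => w⁻¹ * f w := by
    intro v w hvw
    have hfix : f (v * w⁻¹) = v * w⁻¹ := by
      have hvw' : v⁻¹ * f v = w⁻¹ * f w := hvw
      rw [map_mul, map_inv, show f v = v * (w⁻¹ * f w) by rw [← hvw']; simp, mul_assoc v,
        mul_assoc w⁻¹, mul_inv_cancel, mul_one]
    exact mul_inv_eq_one.1 (h.eq_one_of_fixed hf hne hfix)
  refine hψ (MonoidHom.ext fun w => ?_)
  obtain ⟨v, rfl⟩ := Finite.injective_iff_surjective.1 hinj w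
  show ψ (v⁻¹ * f v) = 1
  rw [map_mul, map_inv, ← pre_apply, he, inv_mul_cancel]

theorem pre_injective (h : Semireg P) {f g : MulAut (P : Subgroup G)} (hf : f ∈ aut P)
    (hg : g ∈ aut P) {ψ : (P : Subgroup G) →* ℂˣ} (hψ : ψ ≠ 1) (he : pre f ψ = pre g ψ) :
    f = g := by
  have := congrArg (pre g⁻¹) he
  rw [pre_pre, pre_pre, mul_inv_cancel, pre_one, pre_eq_self_iff h (mul_mem hf (inv_mem hg)) hψ,
    mul_inv_eq_one] at this
  exact this

/-- Two nonprincipal linear characters in one orbit. -/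
def orbSetoid (P : Sylow p G) : Setoid (Lin0 P) where
  r a b := ∃ f ∈ aut P, pre f a.1 = b.1
  iseqv :=
    { refl := fun a => ⟨1, one_mem _, pre_one _⟩
      symm := fun {a b} ⟨f, hf, he⟩ => ⟨f⁻¹, inv_mem hf, by
        rw [← he, pre_pre, mul_inv_cancel, pre_one]⟩
      trans := fun {a b c} ⟨f, hf, he⟩ ⟨g, hg, hge⟩ => ⟨f * g, mul_mem hf hg, by
        rw [← hge, ← he, pre_pre]⟩ }

/-- The orbits. -/
abbrev Orb (P : Sylow p G) := Quotient (orbSetoid P)

/-- A representative of an orbit. -/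
noncomputable def rep (o : Orb P) : (P : Subgroup G) →* ℂˣ := (Quotient.out o).1

theorem rep_ne_one (o : Orb P) : rep o ≠ 1 := (Quotient.out o).2

/-- The orbit of a nonprincipal linear character. -/
noncomputable def cls (ψ : (P : Subgroup G) →* ℂˣ) (hψ : ψ ≠ 1) : Orb P :=
  Quotient.mk (orbSetoid P) ⟨ψ, hψ⟩

theorem exists_pre_rep (ψ : (P : Subgroup G) →* ℂˣ) (hψ : ψ ≠ 1) :
    ∃ f ∈ aut P, pre f (rep (cls ψ hψ)) = ψ :=
  Quotient.mk_out (s := orbSetoid P) ⟨ψ, hψ⟩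

theorem cls_pre {f : MulAut (P : Subgroup G)} (hf : f ∈ aut P) (o : Orb P) :
    cls (pre f (rep o)) (pre_ne_one (rep_ne_one o)) = o := by
  conv_rhs => rw [← Quotient.out_eq o]
  exact (Quotient.sound (s := orbSetoid P)
    (⟨f, hf, rfl⟩ : ∃ g ∈ aut P, pre g (Quotient.out o).1 = pre f (rep o))).symm

theorem cls_rep (o : Orb P) : cls (rep o) (rep_ne_one o) = o :=
  Quotient.out_eq o

theorem cls_eq_of_rel {ψ ψ' : (P : Subgroup G) →* ℂˣ} (hψ : ψ ≠ 1) (hψ' : ψ' ≠ 1)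
    {f : MulAut (P : Subgroup G)} (hf : f ∈ aut P) (he : pre f ψ = ψ') :
    cls ψ' hψ' = cls ψ hψ :=
  (Quotient.sound (s := orbSetoid P)
    (⟨f, hf, he⟩ : ∃ g ∈ aut P, pre g (⟨ψ, hψ⟩ : Lin0 P).1 = (⟨ψ', hψ'⟩ : Lin0 P).1)).symm

/-- Orbits times automorphisms give all nonprincipal linear characters. -/
noncomputable def orbEquiv (h : Semireg P) : Orb P × aut P ≃ Lin0 P :=
  Equiv.ofBijective (fun x => ⟨pre x.2.1 (rep x.1), pre_ne_one (rep_ne_one _)⟩) <| by
    refine ⟨fun x y hxy => ?_, fun ψ => ?_⟩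
    · have he : pre x.2.1 (rep x.1) = pre y.2.1 (rep y.1) := congrArg Subtype.val hxy
      have ho : x.1 = y.1 := by
        rw [← cls_pre x.2.2 x.1, ← cls_pre y.2.2 y.1]
        congr 1
      exact Prod.ext ho (Subtype.ext (pre_injective h x.2.2 y.2.2 (rep_ne_one x.1)
        (by rw [he, ho])))
    · obtain ⟨f, hf, he⟩ := exists_pre_rep ψ.1 ψ.2
      exact ⟨(cls ψ.1 ψ.2, ⟨f, hf⟩), Subtype.ext he⟩

theorem finite_lin (h : Semireg P) : Finite ((P : Subgroup G) →* ℂˣ) := by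
  haveI := h.comm
  exact finite_dual

theorem finite_orb (h : Semireg P) : Finite (Orb P) :=
  haveI := finite_lin h
  Quotient.finite _

open Classical in
/-- The orbits partition the nonprincipal linear characters. -/
theorem sum_lin (h : Semireg P) [Fintype ((P : Subgroup G) →* ℂˣ)] [Fintype (Orb P)]
    [Fintype (aut P)] {R : Type*} [AddCommMonoid R] (F : ((P : Subgroup G) →* ℂˣ) → R) :
    ∑ ψ, F ψ = F 1 + ∑ o : Orb P, ∑ f : aut P, F (pre f.1 (rep o)) := by
  rw [Fintype.sum_eq_add_sum_subtype_ne _ (1 : (P : Subgroup G) →* ℂˣ),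
    ← Fintype.sum_prod_type']
  congr 1
  exact (Fintype.sum_equiv (orbEquiv h) (fun x => F (pre x.2.1 (rep x.1))) (fun ψ => F ψ.1)
    fun x => rfl).symm

theorem card_orb_mul (h : Semireg P) :
    Nat.card (Orb P) * Nat.card (aut P) + 1 = Nat.card (P : Subgroup G) := by
  classical
  haveI := h.comm
  haveI := finite_lin h
  haveI := finite_orb h
  haveI := Fintype.ofFinite ((P : Subgroup G) →* ℂˣ)
  haveI := Fintype.ofFinite (Orb P)
  haveI := Fintype.ofFinite (aut P)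
  have := sum_lin h (fun _ => 1)
  simp only [Finset.sum_const, Finset.card_univ, smul_eq_mul, mul_one] at this
  rw [← card_dual (A := (P : Subgroup G)), Nat.card_eq_fintype_card, Nat.card_eq_fintype_card,
    Nat.card_eq_fintype_card, this, add_comm]

/-- The sum over the orbit. -/
noncomputable def orbSum (o : Orb P) (y : (P : Subgroup G)) : ℂ :=
  ∑ᶠ f : aut P, (rep o (f.1 y) : ℂ)

theorem orbSum_eq [Fintype (aut P)] (o : Orb P) (y : (P : Subgroup G)) :
    orbSum o y = ∑ f : aut P, (rep o (f.1 y) : ℂ) :=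
  finsum_eq_sum_of_fintype _

theorem sum_orbSum (h : Semireg P) [Fintype (Orb P)] {y : (P : Subgroup G)} (hy : y ≠ 1) :
    ∑ o : Orb P, orbSum o y = -1 := by
  classical
  haveI := h.comm
  haveI := finite_lin h
  haveI := Fintype.ofFinite ((P : Subgroup G) →* ℂˣ)
  haveI := Fintype.ofFinite (aut P)
  have := sum_lin h (fun ψ => (ψ y : ℂ))
  rw [sum_dual_apply, if_neg hy, MonoidHom.one_apply, Units.val_one] at this
  simp only [orbSum_eq, ← pre_apply]
  exact (neg_eq_of_add_eq_zero_right this.symm).symm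

/-- The set of conjugates used in the statements is the orbit. -/
theorem conj_set_eq (ψ : (P : Subgroup G) →* ℂˣ) :
    {ψ' : (P : Subgroup G) →* ℂˣ | ∃ n : G, n ∈ Subgroup.normalizer ((P : Subgroup G) : Set G) ∧
      ∀ w w' : (P : Subgroup G), (w' : G) = n * w * n⁻¹ → ψ' w' = ψ w} =
      Set.range fun f : aut P => pre f.1 ψ := by
  refine Set.ext fun ψ' => ⟨?_, ?_⟩
  · rintro ⟨n, hn, hw⟩
    refine ⟨⟨_, ⟨⟨n⁻¹, inv_mem hn⟩, rfl⟩⟩, MonoidHom.ext fun w => ?_⟩
    refine (hw _ w ?_).symm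
    show (w : G) = n * ((Subgroup.normalizerMonoidHom (P : Subgroup G) ⟨n⁻¹, inv_mem hn⟩ w :
      (P : Subgroup G)) : G) * n⁻¹
    rw [coe_aut_apply]
    group
  · rintro ⟨⟨_, ⟨⟨n, hn⟩, rfl⟩⟩, rfl⟩
    refine ⟨n⁻¹, inv_mem hn, fun w w' hw => congrArg ψ (Subtype.ext ?_)⟩
    show ((Subgroup.normalizerMonoidHom (P : Subgroup G) ⟨n, hn⟩ w' : (P : Subgroup G)) : G) = _
    rw [coe_aut_apply, hw]
    group

theorem finsum_conj_set (h : Semireg P) {ψ : (P : Subgroup G) →* ℂˣ} (hψ : ψ ≠ 1)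
    (y : (P : Subgroup G)) :
    ∑ᶠ ψ' ∈ {ψ' : (P : Subgroup G) →* ℂˣ | ∃ n : G,
        n ∈ Subgroup.normalizer ((P : Subgroup G) : Set G) ∧
        ∀ w w' : (P : Subgroup G), (w' : G) = n * w * n⁻¹ → ψ' w' = ψ w}, ((ψ' y : ℂˣ) : ℂ) =
      orbSum (cls ψ hψ) y := by
  haveI := Fintype.ofFinite (aut P)
  rw [conj_set_eq, finsum_mem_range fun a b he => Subtype.ext (pre_injective h a.2 b.2 hψ he),
    finsum_eq_sum_of_fintype, orbSum_eq]
  obtain ⟨f, hf, he⟩ := exists_pre_rep ψ hψ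
  refine Fintype.sum_equiv (Equiv.mulLeft (⟨f, hf⟩ : aut P)) _ _ fun g => ?_
  conv_lhs => rw [← he, pre_pre, pre_apply]
  rfl

end CfsgLib.BlocksFrobenius
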