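import Cfsg.Agent.BlocksFrobenius.Frame
import Cfsg.Agent.BlocksCyclic.Main

/-!
# The exceptional family when the Sylow subgroup has prime order
-/

set_option autoImplicit false
set_option linter.style.haveILetI false
set_option linter.unusedSectionVars false

namespace CfsgLib.BlocksFrobenius

open Cfsg CfsgLib.Blocks CfsgLib.PrincipalBlock

universe u

variable {G : Type u} [Group G] [Fintype G] {p : ℕ} [Fact p.Prime] {P : Sylow p G}

theorem semireg_of_prime (hP : Nat.card (P : Subgroup G) = p) : Semireg P := by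
  haveI := isCyclic_of_prime_card hP
  refine ⟨⟨⟨fun a b => ?_⟩⟩, fun y hy hy1 => ?_⟩
  · obtain ⟨g, hg⟩ := IsCyclic.exists_generator (α := (P : Subgroup G))
    obtain ⟨i, rfl⟩ := hg a
    obtain ⟨j, rfl⟩ := hg b
    rw [← zpow_add, ← zpow_add, add_comm]
  · rw [BlocksCyclic.centralizer_generator hP hy hy1, inf_eq_left]
    exact Subgroup.centralizer_le_normalizer _

variable {M : Ideal AlgInt} [M.IsPrime]

open Classical in
theorem card_block_of_prime (hM : Cfsg.IsPModular p M) (hP : Nat.card (P : Subgroup G) = p) :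
    (Cfsg.principalBlock M G).toFinset.card = Nat.card (aut P) + Nat.card (Orb P) := by
  obtain ⟨x, hxP, hx⟩ := BlocksCyclic.exists_generator hP
  obtain ⟨θ, hθ, hθC⟩ := BlocksCyclic.exists_theta hP hxP hx
  have hB := (BlocksCyclic.principalBlock_structure hM P hP hxP hx hθ hθC).1
  have hE : Nat.card θ.range = Nat.card (aut P) := by
    rw [← Subgroup.index_ker, card_aut, Subgroup.relIndex]
    congr 1
    ext n
    exact hθC n
  have h1 := Subgroup.card_eq_card_quotient_mul_card_subgroup θ.range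
  rw [Nat.card_eq_fintype_card (α := (ZMod p)ˣ), ZMod.card_units, hE] at h1
  have h2 := card_orb_mul (semireg_of_prime hP)
  rw [hP] at h2
  have h3 : Nat.card ((ZMod p)ˣ ⧸ θ.range) = Nat.card (Orb P) :=
    Nat.eq_of_mul_eq_mul_right (Nat.card_pos : 0 < Nat.card (aut P)) (by omega)
  rw [Set.toFinset_card, ← Nat.card_eq_fintype_card, hB, hE, h3]

open Classical in
/-- A family with `d = 0`, so that the other members have signs. -/
theorem exists_frame_prime (hM : Cfsg.IsPModular p M) (hP : Nat.card (P : Subgroup G) = p)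
    [Fintype (Orb P)] [DecidableEq (Orb P)] [Nonempty (Orb P)] :
    ∃ F : Frame M P, F.d = 0 ∧ F.rest.card = Nat.card (aut P) ∧
      ∀ χ ∈ F.rest, F.aval χ = 1 ∨ F.aval χ = -1 := by
  have h := semireg_of_prime hP
  have hP1 : Nat.card (P : Subgroup G) ≠ 1 := by rw [hP]; exact (Fact.out : p.Prime).ne_one
  have hB := card_block_of_prime hM hP (P := P)
  rw [Nat.card_eq_fintype_card (α := Orb P)] at hB
  have hrest : ∀ F : Frame M P, F.rest.card = Nat.card (aut P) := fun F => by
    have h1 := F.sum_block (fun _ => (1 : ℕ))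
    simp only [Finset.sum_const, smul_eq_mul, mul_one, Finset.card_univ] at h1
    omega
  suffices ∃ F : Frame M P, F.d = 0 by
    obtain ⟨F, hd⟩ := this
    refine ⟨F, hd, hrest F, fun χ hχ => ?_⟩
    have h1 := F.norm_eq h hM
    have h2 : ∀ ψ ∈ F.rest, (1 : ℤ) ≤ F.aval ψ ^ 2 := fun ψ hψ =>
      Int.add_one_le_iff.2 (sq_pos_iff.2 (F.aval_ne_zero h hM hP1 hψ))
    have h3 : ∑ ψ ∈ F.rest, (1 : ℤ) = ∑ ψ ∈ F.rest, F.aval ψ ^ 2 := by
      rw [Finset.sum_const, nsmul_one, hrest F]
      rw [hd] at h1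
      rcases F.sign with e | e <;> rw [e] at h1 <;> linarith
    exact sq_eq_one_iff.1 ((Finset.sum_eq_sum_iff_of_le h2).1 h3 χ hχ).symm
  by_cases h2 : 2 ≤ Fintype.card (Orb P)
  · obtain ⟨F⟩ := exists_frame h hM h2
    by_cases hd : F.d = 0
    · exact ⟨F, hd⟩
    have h1 := F.norm_eq h hM
    have h4 : (Nat.card (aut P) : ℤ) ≤ ∑ ψ ∈ F.rest, F.aval ψ ^ 2 := by
      rw [← hrest F, Finset.card_eq_sum_ones, Nat.cast_sum]
      exact Finset.sum_le_sum fun ψ hψ =>
        Int.add_one_le_iff.2 (sq_pos_iff.2 (F.aval_ne_zero h hM hP1 hψ))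
    have h5 : (1 : ℤ) ≤ F.d ^ 2 := Int.add_one_le_iff.2 (sq_pos_iff.2 hd)
    have h6 : (2 : ℤ) ≤ Fintype.card (Orb P) := by exact_mod_cast h2
    have h7 : (F.d - F.δ) ^ 2 = 0 := by
      nlinarith [mul_nonneg (sub_nonneg.2 h6) (sq_nonneg F.d), sq_nonneg (F.d - F.δ)]
    have h8 : F.d = F.δ := sub_eq_zero.1 (pow_eq_zero_iff two_ne_zero |>.1 h7)
    have h9 : Fintype.card (Orb P) = 2 := by
      have : ((Fintype.card (Orb P) : ℤ) - 1) * F.d ^ 2 ≤ 1 := by
        nlinarith [sq_nonneg (F.d - F.δ)]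
      have : (Fintype.card (Orb P) : ℤ) ≤ 2 := by nlinarith
      omega
    obtain ⟨a, b, hab, hu⟩ := Finset.card_eq_two.1 (Finset.card_univ.trans h9)
    exact ⟨F.swap a b hab (fun o => by
      have := hu ▸ Finset.mem_univ o
      simpa using this) h8, rfl⟩
  · have hr : Fintype.card (Orb P) = 1 := by
      have := Fintype.card_pos (α := Orb P); omega
    haveI : Subsingleton (Orb P) := Fintype.card_le_one_iff_subsingleton.1 hr.le
    set B := (Cfsg.principalBlock M G).toFinset
    set o₀ : Orb P := Classical.arbitrary _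
    have hsq : ∀ χ ∈ B, oc χ o₀ = 1 ∨ oc χ o₀ = -1 := by
      intro χ hχ
      have h0 : ∀ ψ ∈ B, (1 : ℤ) ≤ oc ψ o₀ ^ 2 := fun ψ hψ => by
        obtain ⟨o, ho⟩ := exists_coeff_ne_zero h hM hP1 (Set.mem_toFinset.1 hψ)
        rw [Subsingleton.elim o o₀] at ho
        exact Int.add_one_le_iff.2 (sq_pos_iff.2 ho)
      have h1 : ∑ ψ ∈ B, (1 : ℤ) = ∑ ψ ∈ B, oc ψ o₀ ^ 2 := by
        simp only [sq, B, gram_oc h hM, if_pos rfl, Finset.sum_const, nsmul_one, hB, hr]
        push_cast; ring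
      exact sq_eq_one_iff.1 ((Finset.sum_eq_sum_iff_of_le h0).1 h1 χ hχ).symm
    obtain ⟨θ, hθB, hθ⟩ := Finset.exists_mem_ne (s := B) (by
      have : 0 < Nat.card (aut P) := Nat.card_pos
      omega) (trivChar G)
    exact ⟨{
      η := fun _ => θ
      inj := fun a b _ => Subsingleton.elim a b
      mem := fun _ => Set.mem_toFinset.1 hθB
      d := 0
      δ := -oc θ o₀
      sign := by rcases hsq θ hθB with e | e <;> simp [e]
      oc_eta := fun o u => by
        rw [Subsingleton.elim o o₀, Subsingleton.elim u o₀, if_pos rfl]; ring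
      oc_rest := fun χ _ _ o o' => by rw [Subsingleton.elim o o'] }, rfl⟩

end CfsgLib.BlocksFrobenius
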